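import Cfsg.Agent.H818.Gen.Defs

/-!
# S2187: the rows and the top assembly (hub file, helper818)

* `Cond r p`  : `p` odd, `p ≠ r`, and `7 ≤ p ∨ r ≠ 2`;
* `GenRows`   : the rows of the sixteen families;
* `main`      : S2187 from `GenRows`.
-/

set_option autoImplicit false
set_option linter.dupNamespace false

namespace Cfsg.Agent.H818.Gen

open Cfsg

universe u

/-- the conditions of S2187 on the characteristic `r` and the prime `p` -/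
structure Cond (r p : ℕ) : Prop where
  r_prime : r.Prime
  p_prime : p.Prime
  p_ne_two : p ≠ 2
  p_ne_r : p ≠ r
  big : 7 ≤ p ∨ r ≠ 2

theorem Cond.three_le {r p : ℕ} (h : Cond r p) : 3 ≤ p := by
  have h1 := h.p_prime.two_le
  have h2 := h.p_ne_two
  omega

/-- the rows -/
structure GenRows : Prop where
  psl : ∀ {F : Type} [Field F] [Fintype F] {r p : ℕ} [CharP F r], Cond r p → ∀ {n : ℕ}, 2 ≤ n →
    (n = 2 → 4 ≤ Fintype.card F) → Gen p (Matrix.ProjectiveSpecialLinearGroup (Fin n) F)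
  psp : ∀ {F : Type} [Field F] [Fintype F] {r p : ℕ} [CharP F r], Cond r p → ∀ {m : ℕ}, 2 ≤ m →
    (m = 2 → 3 ≤ Fintype.card F) → Gen p (PSp m F)
  psu : ∀ {F : Type} [Field F] [Fintype F] {r p : ℕ} [CharP F r], Cond r p → ∀ {n q : ℕ}, Fintype.card F = q ^ 2 →
    3 ≤ n → ¬ (n = 3 ∧ q = 2) → Gen p (PSU n F q)
  oodd : ∀ {F : Type} [Field F] [Fintype F] {r p : ℕ} [CharP F r], Cond r p → ∀ {m : ℕ}, 3 ≤ m →
    Odd (Fintype.card F) → Gen p (POmega F (quadFormOdd m F))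
  oplus : ∀ {F : Type} [Field F] [Fintype F] {r p : ℕ} [CharP F r], Cond r p → ∀ {m : ℕ}, 4 ≤ m →
    Gen p (POmega F (quadFormPlus m F))
  ominus : ∀ {F : Type} [Field F] [Fintype F] {r p : ℕ} [CharP F r], Cond r p → ∀ {m : ℕ} {a b : F}, 4 ≤ m →
    (∀ z₁ z₂ : F, z₁ ^ 2 + a * z₁ * z₂ + b * z₂ ^ 2 = 0 → z₁ = 0 ∧ z₂ = 0) →
    Gen p (POmega F (quadFormMinus (m - 1) F a b))
  g2 : ∀ {F : Type} [Field F] [Fintype F] {r p : ℕ} [CharP F r], Cond r p → 3 ≤ Fintype.card F →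
    Gen p ↥(Lie.chevG2.group F)
  f4 : ∀ {F : Type} [Field F] [Fintype F] {r p : ℕ} [CharP F r], Cond r p → Gen p ↥(Lie.chevF4.group F)
  e6 : ∀ {F : Type} [Field F] [Fintype F] {r p : ℕ} [CharP F r], Cond r p → Gen p ↥(Lie.chevE6.group F)
  e7 : ∀ {F : Type} [Field F] [Fintype F] {r p : ℕ} [CharP F r], Cond r p → Gen p ↥(Lie.chevE7.group F)
  e8 : ∀ {F : Type} [Field F] [Fintype F] {r p : ℕ} [CharP F r], Cond r p → Gen p ↥(Lie.chevE8.group F)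
  te6 : ∀ {K : Type} [Field K] [Fintype K] {r p : ℕ} [CharP K r], Cond r p → ∀ {q : ℕ}, IsPrimePow q →
    Fintype.card K = q ^ 2 → Gen p ↥(Lie.twistedE6 K q)
  td4 : ∀ {K : Type} [Field K] [Fintype K] {r p : ℕ} [CharP K r], Cond r p → ∀ {q : ℕ}, IsPrimePow q →
    Fintype.card K = q ^ 3 → Gen p ↥(Lie.twistedD4 K q)
  sz : ∀ {G : Type u} [Group G] [Finite G] {p : ℕ}, Cond 2 p → Lie.IsoSuzuki G → Gen p G
  tf4 : ∀ {G : Type u} [Group G] [Finite G] {p : ℕ}, Cond 2 p → Lie.Iso2F4 G → Gen p G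
  ree : ∀ {G : Type u} [Group G] [Finite G] {p : ℕ}, Cond 3 p → Lie.IsoRee G → Gen p G

/-- `Gen` for all groups of Lie type -/
theorem gen_of_rows (R : GenRows.{u}) {G : Type u} [Group G] [Finite G] {r p : ℕ} (hG : IsLieTypeChar r G)
    (hc : Cond r p) : Gen p G := by
  rcases hG with h | h | h | h | h | h | h | h | h | h | h
  · obtain ⟨F, _, _, _, n, hn, h4, ⟨e⟩⟩ := h
    exact (R.psl hc hn h4).congr e.symm
  · obtain ⟨F, _, _, _, m, hm, h4, ⟨e⟩⟩ := h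
    exact (R.psp hc hm h4).congr e.symm
  · obtain ⟨F, _, _, _, n, q, hq, hn, h32, ⟨e⟩⟩ := h
    exact (R.psu hc hq hn h32).congr e.symm
  · obtain ⟨F, _, _, _, m, hm, ho, ⟨e⟩⟩ := h
    exact (R.oodd hc hm ho).congr e.symm
  · obtain ⟨F, _, _, _, m, hm, ⟨e⟩⟩ := h
    exact (R.oplus hc hm).congr e.symm
  · obtain ⟨F, _, _, _, m, a, b, hm, hab, ⟨e⟩⟩ := h
    exact (R.ominus hc hm hab).congr e.symm
  · obtain ⟨F, _, _, _, h⟩ := h
    rcases h with ⟨h3, ⟨e⟩⟩ | ⟨⟨e⟩⟩ | ⟨⟨e⟩⟩ | ⟨⟨e⟩⟩ | ⟨⟨e⟩⟩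
    · exact (R.g2 hc h3).congr e.symm
    · exact (R.f4 hc).congr e.symm
    · exact (R.e6 hc).congr e.symm
    · exact (R.e7 hc).congr e.symm
    · exact (R.e8 hc).congr e.symm
  · obtain ⟨F, _, _, _, q, hq, h⟩ := h
    rcases h with ⟨hF, ⟨e⟩⟩ | ⟨hF, ⟨e⟩⟩
    · exact (R.te6 hc hq hF).congr e.symm
    · exact (R.td4 hc hq hF).congr e.symm
  · obtain ⟨rfl, h⟩ := h
    exact R.sz hc h
  · obtain ⟨rfl, h⟩ := h
    exact R.tf4 hc h
  · obtain ⟨rfl, h⟩ := h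
    exact R.ree hc h

/-- **S2187 from its rows.** -/
theorem main (R : GenRows.{u}) {G : Type u} [Group G] [Finite G] (r : ℕ) [hr : Fact r.Prime]
    (hG : Cfsg.IsLieTypeChar r G) (p : ℕ) [hp : Fact p.Prime] (hp2 : p ≠ 2) (hpr : p ≠ r) (h : 7 ≤ p ∨ r ≠ 2)
    (E : Subgroup (MulAut G)) (hE : Cfsg.IsElementaryAbelian p E) (hE2 : p ^ 2 ≤ Nat.card E) :
    Subgroup.closure {g : G | ∃ F : Subgroup (MulAut G), F ≤ E ∧ (F.subgroupOf E).index = p ∧ ∀ φ ∈ F, φ g = g} = ⊤ :=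
  gen_of_rows R hG ⟨hr.out, hp.out, hp2, hpr, h⟩ E hE hE2

end Cfsg.Agent.H818.Gen
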