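import Cfsg.Agent.H818.Gen.Defs
import Cfsg.Agent.H316.U6Model

/-!
# S2187: the frame for the exceptional groups (hub file, helper818)

`ι : K₀ →* Y` injective, `σ` an automorphism of `Y` fixing `ι K₀`, `K₀` normalised by `Y^σ`, `C_Y(ι K₀) = 1`.

* `GamY ι p E` : for `E ≤ Y`: the subgroup of `K₀` generated by the centralizers of the hyperplanes of `E`;
* `GenY ι σ p` : `GamY ι p E = ⊤` for all elementary abelian `E ≤ Y^σ`, `p ^ 2 ≤ |E|`;
* `GamY_mono`, `Gam_eq_GamY`, `top_of_inner` : inner-diagonal `E ≤ Aut K₀` from `GenY`;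
* `GenIn m p`  : `GenY` for `m : MData`;
* `gen_of_mdata` : `Gen p K₀` from `GenIn m p` and the outer case.
-/

set_option autoImplicit false
set_option linter.dupNamespace false
set_option linter.unusedSectionVars false

namespace Cfsg.Agent.H818.Gen

open Cfsg Subgroup

section abs

variable {Y : Type*} [Group Y] {K₀ : Type*} [Group K₀] (ι : K₀ →* Y)

/-- the subgroup of `K₀` generated by the centralizers of the hyperplanes of `E ≤ Y` -/
def GamY (p : ℕ) (E : Subgroup Y) : Subgroup K₀ :=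
  closure {a : K₀ | ∃ F : Subgroup Y, F ≤ E ∧ F.relIndex E = p ∧ ∀ y ∈ F, y * ι a = ι a * y}

/-- the conclusion for all elementary abelian subgroups of `Y^σ` -/
def GenY (σ : MulAut Y) (p : ℕ) : Prop :=
  ∀ E : Subgroup Y, IsElementaryAbelian p E → (∀ y ∈ E, σ y = y) → p ^ 2 ≤ Nat.card E → GamY ι p E = ⊤

variable {ι} {p : ℕ}

theorem mem_GamY {E F : Subgroup Y} (hF : F ≤ E) (hi : F.relIndex E = p) {a : K₀} (ha : ∀ y ∈ F, y * ι a = ι a * y) :
    a ∈ GamY ι p E := subset_closure ⟨F, hF, hi, ha⟩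

theorem GamY_le {E : Subgroup Y} {H : Subgroup K₀}
    (h : ∀ F : Subgroup Y, F ≤ E → F.relIndex E = p → ∀ a : K₀, (∀ y ∈ F, y * ι a = ι a * y) → a ∈ H) :
    GamY ι p E ≤ H := by
  refine (closure_le _).2 ?_
  rintro a ⟨F, hF, hi, ha⟩
  exact h F hF hi a ha

variable [hp : Fact p.Prime]

/-- **monotonicity** -/
theorem GamY_mono {E E' : Subgroup Y} [Finite ↥E'] (h : E ≤ E') (hE : IsElementaryAbelian p E') (hc : p ≤ Nat.card E) :
    GamY ι p E' ≤ GamY ι p E := by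
  refine GamY_le fun F hF hi a ha => ?_
  have : Finite ↥E := Finite.of_injective _ (inclusion_injective h)
  rcases inf_hyperplane h hE hF hi with h1 | h1
  · obtain ⟨F₁, hF₁, hi₁⟩ := exists_hyperplane (elab_mono h hE) hc
    exact mem_GamY hF₁ hi₁ fun y hy => ha y (h1 (hF₁ hy))
  · exact mem_GamY inf_le_right h1 fun y hy => ha y hy.1

/-- `|E| = p ^ 2`, `1 ≠ y ∈ E` : the elements commuting with `y` -/
theorem mem_GamY_of_comm {E : Subgroup Y} (hE : IsElementaryAbelian p E) (hc : Nat.card E = p ^ 2) {y : Y}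
    (hy : y ∈ E) (h1 : y ≠ 1) {a : K₀} (ha : y * ι a = ι a * y) : a ∈ GamY ι p E := by
  have h2 : orderOf y = p := orderOf_eq_prime (hE.2 y hy) h1
  have h3 : zpowers y ≤ E := zpowers_le.2 hy
  refine mem_GamY h3 ?_ ?_
  · have h4 := (zpowers y).subgroupOf E |>.card_mul_index
    rw [Nat.card_congr (subgroupOfEquivOfLe h3).toEquiv, Nat.card_zpowers, h2, hc, pow_two] at h4
    exact Nat.eq_of_mul_eq_mul_left hp.out.pos h4
  · intro z hz
    obtain ⟨n, rfl⟩ := mem_zpowers_iff.1 hz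
    have h5 : Commute y (ι a) := ha
    exact (h5.zpow_left n)

/-- conjugation by an element of `K₀`, or by an element of `Y` normalizing `K₀` -/
theorem GamY_conj {E : Subgroup Y} {z : Y} {f : MulAut K₀} (hf : ∀ a, ι (f a) = z * ι a * z⁻¹) :
    GamY ι p (E.map (MulAut.conj z).toMonoidHom) = (GamY ι p E).map f.toMonoidHom := by
  have key : ∀ (E : Subgroup Y) (z : Y) (f : MulAut K₀), (∀ a, ι (f a) = z * ι a * z⁻¹) →
      (GamY ι p E).map f.toMonoidHom ≤ GamY ι p (E.map (MulAut.conj z).toMonoidHom) := by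
    intro E z f hf
    rw [map_le_iff_le_comap]
    refine GamY_le fun F hF hi a ha => ?_
    refine mem_GamY (F := F.map (MulAut.conj z).toMonoidHom) (map_mono hF) ?_ ?_
    · rw [relIndex_map_map_of_injective _ _ (MulAut.conj z).injective, hi]
    · rintro _ ⟨y, hy, rfl⟩
      show z * y * z⁻¹ * ι (f a) = ι (f a) * (z * y * z⁻¹)
      rw [hf]
      have := ha y hy
      calc z * y * z⁻¹ * (z * ι a * z⁻¹) = z * (y * ι a) * z⁻¹ := by group
        _ = z * (ι a * y) * z⁻¹ := by rw [this]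
        _ = _ := by group
  apply le_antisymm _ (key E z f hf)
  have h1 := key (E.map (MulAut.conj z).toMonoidHom) z⁻¹ f⁻¹ (by
    intro a
    have h2 := hf (f⁻¹ a)
    rw [MulAut.apply_inv_self] at h2
    rw [h2]
    group)
  have h2 : (E.map (MulAut.conj z).toMonoidHom).map (MulAut.conj z⁻¹).toMonoidHom = E := by
    rw [Subgroup.map_map]
    have : ((MulAut.conj z⁻¹).toMonoidHom).comp ((MulAut.conj z).toMonoidHom) = MonoidHom.id _ := by
      ext x
      show z⁻¹ * (z * x * z⁻¹) * z⁻¹⁻¹ = x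
      group
    rw [this, Subgroup.map_id]
  rw [h2] at h1
  intro a ha
  refine ⟨f⁻¹ a, h1 ⟨a, ha, rfl⟩, ?_⟩
  exact MulAut.apply_inv_self _ f a

variable (hι : Function.Injective ι) {σ : MulAut Y}
  (hn : ∀ y, σ y = y → ∀ a, ∃ b, ι b = y * ι a * y⁻¹) (hcc : ∀ z : Y, (∀ a, z * ι a = ι a * z) → z = 1)

/-- the automorphisms of `K₀` induced by the elements of `Y^σ` -/
theorem exists_hom (hι : Function.Injective ι) (hn : ∀ y, σ y = y → ∀ a, ∃ b, ι b = y * ι a * y⁻¹)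
    {X : Subgroup Y} (hX : ∀ y ∈ X, σ y = y) :
    ∃ f : ↥X →* MulAut K₀, ∀ y a, ι (f y a) = y * ι a * (y : Y)⁻¹ := by
  classical
  choose b hb using fun (y : ↥X) (a : K₀) => hn y.1 (hX y.1 y.2) a
  have h1 : ∀ a, b 1 a = a := fun a => hι (by rw [hb]; simp)
  have h2 : ∀ y z a, b (y * z) a = b y (b z a) := fun y z a => hι (by
    rw [hb, hb, hb]
    simp only [Subgroup.coe_mul, mul_inv_rev, mul_assoc])
  have h3 : ∀ y a a', b y (a * a') = b y a * b y a' := fun y a a' => hι (by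
    rw [map_mul, hb, hb, hb, map_mul]
    group)
  refine ⟨MonoidHom.mk' (fun y => (⟨⟨b y, b y⁻¹, fun a => ?_, fun a => ?_⟩, h3 y⟩ : K₀ ≃* K₀)) ?_, ?_⟩
  · rw [← h2, inv_mul_cancel, h1]
  · rw [← h2, mul_inv_cancel, h1]
  · intro y z
    ext a
    exact h2 y z a
  · intro y a
    exact hb y a

include hι hn hcc in
/-- **inner-diagonal `E ≤ Aut K₀`** -/
theorem top_of_inner (h : GenY ι σ p) {E : Subgroup (MulAut K₀)} (hE : IsElementaryAbelian p E)
    (hE2 : p ^ 2 ≤ Nat.card E)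
    (hin : ∀ e ∈ E, e ≠ 1 → ∃ y : Y, σ y = y ∧ ∀ a, ι (e a) = y * ι a * y⁻¹) : Gam p E = ⊤ := by
  obtain ⟨X, hX⟩ : ∃ X : Subgroup Y, ∀ y, y ∈ X ↔ σ y = y :=
    ⟨σ.toMonoidHom.eqLocus (MonoidHom.id Y), fun y => Iff.rfl⟩
  obtain ⟨f, hf⟩ := exists_hom hι hn (fun y hy => (hX y).1 hy)
  have hfi : Function.Injective f := by
    rw [injective_iff_map_eq_one]
    intro y hy
    refine Subtype.ext (hcc _ fun a => ?_)
    have h1 := hf y a
    rw [hy] at h1
    exact (eq_mul_inv_iff_mul_eq.1 h1).symm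
  -- the preimage
  obtain ⟨E₁, hE₁⟩ : ∃ E₁ : Subgroup ↥X, E₁ = E.comap f := ⟨_, rfl⟩
  have hmap : E₁.map f = E := by
    refine le_antisymm (by rw [hE₁]; exact map_comap_le f E) ?_
    intro e he
    by_cases h1 : e = 1
    · exact ⟨1, one_mem _, by rw [map_one, h1]⟩
    obtain ⟨y, hy, hye⟩ := hin e he h1
    have h2 : f ⟨y, (hX y).2 hy⟩ = e := by
      ext a
      apply hι
      rw [hf, hye]
    exact ⟨⟨y, (hX y).2 hy⟩, by rw [hE₁]; exact (mem_comap.2 (by rw [h2]; exact he)), h2⟩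
  obtain ⟨E₂, hE₂⟩ : ∃ E₂ : Subgroup Y, E₂ = E₁.map X.subtype := ⟨_, rfl⟩
  have hE1ab : IsElementaryAbelian p E₁ := by
    rw [hE₁]
    refine ⟨⟨⟨?_⟩⟩, ?_⟩
    · rintro ⟨a, ha⟩ ⟨b, hb⟩
      refine Subtype.ext (hfi ?_)
      have := congrArg (fun z : ↥E => (z : MulAut K₀)) (hE.1.1.1 ⟨f a, ha⟩ ⟨f b, hb⟩)
      show f (a * b) = f (b * a)
      rw [map_mul, map_mul]
      exact this
    · intro a ha
      apply hfi
      rw [map_pow, map_one]
      exact hE.2 _ ha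
  have hE2ab : IsElementaryAbelian p E₂ := by
    rw [hE₂]
    refine ⟨⟨⟨?_⟩⟩, ?_⟩
    · rintro ⟨_, a, ha, rfl⟩ ⟨_, b, hb, rfl⟩
      refine Subtype.ext ?_
      have := congrArg (fun z : ↥E₁ => ((z : ↥X) : Y)) (hE1ab.1.1.1 ⟨a, ha⟩ ⟨b, hb⟩)
      exact this
    · rintro _ ⟨a, ha, rfl⟩
      rw [← map_pow, hE1ab.2 a ha, map_one]
  have hcard : Nat.card ↥E₂ = Nat.card ↥E := by
    rw [hE₂, Nat.card_congr (E₁.equivMapOfInjective X.subtype X.subtype_injective).toEquiv.symm, ← hmap,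
      Nat.card_congr (E₁.equivMapOfInjective f hfi).toEquiv.symm]
  have hσ : ∀ y ∈ E₂, σ y = y := by
    rw [hE₂]
    rintro _ ⟨y, -, rfl⟩
    exact (hX _).1 y.2
  have h1 := h E₂ hE2ab hσ (by rw [hcard]; exact hE2)
  rw [eq_top_iff, ← h1]
  refine GamY_le fun F hF hi a ha => ?_
  rw [hE₂] at hF hi
  -- the image of `F`
  refine CF_le_Gam' (F := (F.comap X.subtype).map f) ?_ ?_ ?_
  · rintro _ ⟨y, hy, rfl⟩
    obtain ⟨z, hz, hzy⟩ := hF hy
    have h2 : z = y := Subtype.ext hzy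
    subst h2
    rw [hE₁] at hz
    exact mem_comap.1 hz
  · rw [← hmap, relIndex_map_map_of_injective _ _ hfi]
    have h2 : (F.comap X.subtype).relIndex E₁ = F.relIndex (E₁.map X.subtype) := relIndex_comap _ _ _
    rw [h2]
    exact hi
  · rintro _ ⟨y, hy, rfl⟩
    apply hι
    rw [hf]
    have h3 : (y : Y) * ι a = ι a * y := ha _ hy
    rw [h3]
    group

end abs

section mdata

open Cfsg.Agent.H316.U6 Cfsg.Lie Cfsg.Agent.Nodes.RGDChev

universe u v

variable {D : ChevalleyDatum} {l : ℕ} {M : CoxeterMatrix (Fin l)} {hp : IsType D l M} {r q : ℕ}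
  [hr : Fact r.Prime] {K₀ : Type v} [Group K₀]

/-- **the inner-diagonal part of a row** : all elementary abelian `E ≤ Y^σ` with `p ^ 2 ≤ |E|` -/
def GenIn (m : MData hp r q K₀) (p : ℕ) : Prop := GenY m.ι m.σ p

/-- **`Gen p K₀` from the inner-diagonal part and the outer part.** -/
theorem gen_of_mdata (m : MData hp r q K₀) {p : ℕ} [hpp : Fact p.Prime]
    (hc : ∀ z, (∀ a, z * m.ι a = m.ι a * z) → z = 1) (hin : GenIn m p) {Out : MulAut K₀ → Prop}
    (halt : ∀ x : MulAut K₀, orderOf x = p →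
      (∃ y, y ^ p = 1 ∧ m.σ y = y ∧ ∀ a, m.ι (x a) = y * m.ι a * y⁻¹) ∨ Out x)
    (hout : ∀ E : Subgroup (MulAut K₀), IsElementaryAbelian p E → p ^ 2 ≤ Nat.card E →
      (∃ x ∈ E, orderOf x = p ∧ Out x) → Gam p E = ⊤) : Gen p K₀ := by
  intro E hE hE2
  by_cases h : ∃ x ∈ E, orderOf x = p ∧ Out x
  · exact hout E hE hE2 h
  push Not at h
  refine top_of_inner m.inj m.norm hc hin hE hE2 fun e he he1 => ?_
  have h1 : orderOf e = p := orderOf_eq_prime (hE.2 e he) he1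
  rcases halt e h1 with ⟨y, -, h2, h3⟩ | h2
  · exact ⟨y, h2, h3⟩
  · exact absurd h2 (h e he h1)

end mdata

end Cfsg.Agent.H818.Gen
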