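import Cfsg.Agent.H28.GenF.Main
import Cfsg.Agent.H818.Gen.OfGen

/-!
# S2187: the rows of the untwisted exceptional groups from the inner-diagonal part of the standard data (hub, helper818)

Variant of `H28.GenF.gen_exc'`: the hypothesis only for the data with `m.ι = emb`, `m.σ = phi`.
-/

set_option autoImplicit false
set_option linter.unusedSectionVars false

namespace Cfsg.Agent.H818.Gen.Exc

open CoxeterSystem Subgroup Cfsg Cfsg.Lie Cfsg.Lie.ChevalleyDatum
open Cfsg.Agent.ChevalleyStructure Cfsg.Agent.ChevalleyStructure.Elts Cfsg.Agent.ChevalleyStructure.CoxeterGeom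
  Cfsg.Agent.ChevalleyStructure.CoxeterGeomTypes Cfsg.Agent.ChevalleyStructure.NPerm
open Cfsg.Agent.Tits.Roots Cfsg.Agent.Tits.Core Cfsg.Agent.Nodes.Reps Cfsg.Agent.Nodes.BNOf
  Cfsg.Agent.Nodes.RGDChev Cfsg.Agent.Nodes.Bruhat
open Cfsg.Agent.CpAut.RgdUntw Cfsg.Agent.KFacts.RgdField Cfsg.Agent.KFacts.RgdChevCoord
open Cfsg.Agent.BpExc Cfsg.Agent.BpExc.Tow Cfsg.Agent.BpExc.TowChev Cfsg.Agent.BpExc.FamExt Cfsg.Agent.BpExc.FamUntw
  Cfsg.Agent.BpExc.FamInst Cfsg.Agent.BpExc.LangFr Cfsg.Agent.BpExc.FamField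
open Cfsg.Agent.GpExc.Field (glMap emb coe_emb glMap_xG emb_injective coe_glMap glMap_injective)
open Cfsg.Agent.H469.Exc Cfsg.Agent.H469.Exc.SigFr
open Cfsg.Agent.H818.Gen Cfsg.Agent.H972.Gen Cfsg.Agent.H316.U6 Cfsg.Agent.H28.GenF

section

variable {D : ChevalleyDatum} {l : ℕ} {M : CoxeterMatrix (Fin l)} (hp : IsType D l M) {r : ℕ} [Fact r.Prime]

/-- the standard data -/
structure StdM (d : ℕ) {hp : IsType D l M} {F : Type} [Field F] [Fintype F]
    (m : MData hp r (Fintype.card F) ↥(D.group F)) : Prop where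
  std : ∃ (f : F →+* KK r) (n : ℕ), Nat.card F = r ^ n ∧ m.ι = emb hp.inList f ∧ m.σ = phi D (KK r) r n
  g : m.g = AddEquiv.refl _
  dd : m.dd = Nat.gcd d (Fintype.card F - 1)
  cent : ∀ z : ↥(D.group (KK r)), (∀ a, z * m.ι a = m.ι a * z) → z = 1

include hp in
/-- **The rows from their inner-diagonal parts.** -/
theorem gen_std (hD : D ∈ [chevG2, chevB2, chevD4, chevF4, chevE6, chevE7, chevE8]) {d : ℕ} {B : Fin l → Fin l → ℤ}
    (hB : InvC D l d B) (hd : d = 1 ∨ d.Prime) (hM : SymTwo M)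
    (hk1 : IsSimpleGroup ↥(D.group (KK r)) ∧ ¬ IsMulCommutative ↥(D.group (KK r)))
    (hF1 : IsSimpleGroup ↥(D.group (GaloisField r 2)) ∧ ¬ IsMulCommutative ↥(D.group (GaloisField r 2)))
    {p : ℕ} (hpp : p.Prime) (hp2 : p ≠ 2)
    (hin : ∀ (F : Type) [Field F] [Fintype F] [CharP F r] (m : MData hp r (Fintype.card F) ↥(D.group F)),
      StdM d m → GenIn m p) :
    ∀ (F : Type) [Field F] [Fintype F] [CharP F r], Gen p ↥(D.group F) := by
  refine gen_exc' hp hD hB hd hM hk1 hF1 hpp hp2 fun F _ _ _ f n m hn h1 h2 h3 h4 =>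
    hin F m ⟨⟨f, n, hn, h1, h2⟩, h3, h4, fun z hz => ?_⟩
  rw [h1] at hz
  exact eq_one_of_comm hp (locFin r) r f (center_bot' hk1) hz

end

section Fam

variable {r : ℕ} [Fact r.Prime] {p : ℕ} (hpp : p.Prime) (hp2 : p ≠ 2)

include hpp hp2 in
theorem gen_g2 (hin : ∀ (F : Type) [Field F] [Fintype F] [CharP F r]
    (m : MData RowsUntw.g2T r (Fintype.card F) ↥(chevG2.group F)), StdM 1 m → GenIn m p) :
    ∀ (F : Type) [Field F] [Fintype F] [CharP F r], Gen p ↥(chevG2.group F) :=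
  gen_std RowsUntw.g2T (by simp) inv_G2 (Or.inl rfl) symTwo_G2 (S1055.result (exists_ne_algClosed _))
    (S1055.result exists_ne_gal) hpp hp2 hin

include hpp hp2 in
theorem gen_f4 (hin : ∀ (F : Type) [Field F] [Fintype F] [CharP F r]
    (m : MData RowsUntw.f4T r (Fintype.card F) ↥(chevF4.group F)), StdM 1 m → GenIn m p) :
    ∀ (F : Type) [Field F] [Fintype F] [CharP F r], Gen p ↥(chevF4.group F) :=
  gen_std RowsUntw.f4T (by simp) inv_F4 (Or.inl rfl) symTwo_F4 (S1054.result chevF4 (by simp))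
    (S1054.result chevF4 (by simp)) hpp hp2 hin

include hpp hp2 in
theorem gen_e6 (hin : ∀ (F : Type) [Field F] [Fintype F] [CharP F r]
    (m : MData RowsUntw.e6T r (Fintype.card F) ↥(chevE6.group F)), StdM 3 m → GenIn m p) :
    ∀ (F : Type) [Field F] [Fintype F] [CharP F r], Gen p ↥(chevE6.group F) :=
  gen_std RowsUntw.e6T (by simp) inv_E6 (Or.inr Nat.prime_three) symTwo_E6 (S1054.result chevE6 (by simp))
    (S1054.result chevE6 (by simp)) hpp hp2 hin

include hpp hp2 in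
theorem gen_e7 (hin : ∀ (F : Type) [Field F] [Fintype F] [CharP F r]
    (m : MData RowsUntw.e7T r (Fintype.card F) ↥(chevE7.group F)), StdM 2 m → GenIn m p) :
    ∀ (F : Type) [Field F] [Fintype F] [CharP F r], Gen p ↥(chevE7.group F) :=
  gen_std RowsUntw.e7T (by simp) inv_E7 (Or.inr Nat.prime_two) symTwo_E7 (S1054.result chevE7 (by simp))
    (S1054.result chevE7 (by simp)) hpp hp2 hin

include hpp hp2 in
theorem gen_e8 (hin : ∀ (F : Type) [Field F] [Fintype F] [CharP F r]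
    (m : MData RowsUntw.e8T r (Fintype.card F) ↥(chevE8.group F)), StdM 1 m → GenIn m p) :
    ∀ (F : Type) [Field F] [Fintype F] [CharP F r], Gen p ↥(chevE8.group F) :=
  gen_std RowsUntw.e8T (by simp) inv_E8 (Or.inl rfl) symTwo_E8 (S1054.result chevE8 (by simp))
    (S1054.result chevE8 (by simp)) hpp hp2 hin

end Fam

end Cfsg.Agent.H818.Gen.Exc
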