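import Cfsg.Agent.H818.Gen.Rows
import Cfsg.Agent.H240.GenTwF.SzRee
import Cfsg.Agent.H240.GenTwF.TwFMain
import Cfsg.Agent.H972.Gen.SpField
import Cfsg.Agent.H975.FieldInput

/-!
# S2187: the rows `PSp`, `Sz`, `²G₂`, `²F₄` (hub file, helper818)
-/

set_option autoImplicit false
set_option linter.dupNamespace false

namespace Cfsg.Agent.H818.Gen

open Cfsg

universe u

theorem fieldRow' : H240.GenTwF.FieldRow.{u} := by
  intro r p hr hpp hp2 hpr X _ _ K hKn hKs hKna hCK hlie hpK hcyc f hfK hfo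
  exact H975.FieldInput.fieldRow r p hp2 hpr X K hKn hKs hKna hCK hlie hpK hcyc f hfK hfo

theorem row_psp {F : Type} [Field F] [Fintype F] {r p : ℕ} [CharP F r] (hC : Cond r p) {m : ℕ} (hm : 2 ≤ m)
    (h22 : m = 2 → 3 ≤ Fintype.card F) : Gen p (PSp m F) := H972.Gen.Sp.psp hC hm h22

theorem row_sz {G : Type u} [Group G] [Finite G] {p : ℕ} (hC : Cond 2 p) (h : Lie.IsoSuzuki G) : Gen p G :=
  H240.GenTwF.row_sz fieldRow' hC h

theorem row_ree {G : Type u} [Group G] [Finite G] {p : ℕ} (hC : Cond 3 p) (h : Lie.IsoRee G) : Gen p G :=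
  H240.GenTwF.row_ree fieldRow' hC h

theorem row_tf4 {G : Type u} [Group G] [Finite G] {p : ℕ} (hC : Cond 2 p) (h : Lie.Iso2F4 G) : Gen p G :=
  H240.GenTwF.row_tf4 fieldRow' hC h

end Cfsg.Agent.H818.Gen
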