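import Cfsg.Agent.H818.Gen.Rows
import Cfsg.Agent.H889.Gen.OrthRow
import Cfsg.Agent.H972.Gen.SlField
import Cfsg.Agent.H972.Gen.SuField
import Cfsg.Agent.H490.Gen.Adapt
import Cfsg.Agent.H522.Gen.CRowU

/-!
# S2187: the classical rows from the irreducible non-commuting cases and triality (hub file, helper818)
-/

set_option autoImplicit false
set_option linter.dupNamespace false

namespace Cfsg.Agent.H818.Gen

open Cfsg

theorem big_ne {F : Type} [Field F] {r p : ℕ} [CharP F r] (hC : Cond r p) : 7 ≤ p ∨ (2 : F) ≠ 0 := by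
  rcases hC.big with h | h
  · exact Or.inl h
  · refine Or.inr fun h2 => h ?_
    have h3 : r ∣ 2 := (CharP.cast_eq_zero_iff F r 2).1 (by exact_mod_cast h2)
    exact (Nat.prime_dvd_prime_iff_eq hC.r_prime Nat.prime_two).1 h3

theorem row_psl {F : Type} [Field F] [Fintype F] {r p : ℕ} [CharP F r] (hC : Cond r p)
    (hNC : H557.Gp.LinearNC.{0, 0} p) {n : ℕ} (hn : 2 ≤ n) (h4 : n = 2 → 4 ≤ Fintype.card F) :
    Gen p (Matrix.ProjectiveSpecialLinearGroup (Fin n) F) := by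
  refine H972.Gen.Sl.psl_of_inner hC ?_ hn h4
  intro F _ _ _ n hn h4 E hE hc hin
  exact H490.Gen.inner_psl hC hn h4 (H490.Gen.ncRow_lin hNC (big_ne hC)) hE hc hin

theorem row_psu {F : Type} [Field F] [Fintype F] {r p : ℕ} [CharP F r] (hC : Cond r p)
    (hNC : H557.Gp.UnitaryNC.{0, 0} p) {n q : ℕ} (hF : Fintype.card F = q ^ 2) (hn : 3 ≤ n)
    (h32 : ¬ (n = 3 ∧ q = 2)) : Gen p (PSU n F q) := by
  refine H972.Gen.Su.psu_of_inner hC ?_ hF hn h32
  intro F _ _ _ n q hF hn h32 E hE hc hin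
  exact H490.Gen.inner_psu hC hF hn h32 (H490.Gen.ncRow_uni hNC hF (big_ne hC))
    (H522.Gen.crow_uni hC hF hn h32) hE hc hin

end Cfsg.Agent.H818.Gen
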