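import Cfsg.Agent.H818.Gen.ExcStd
import Cfsg.Agent.H818.Gen.Rows
import Cfsg.Agent.H225.Gen.F4Row
import Cfsg.Agent.H751.Two.Rows
import Cfsg.Agent.H751.Two.G2Three
import Cfsg.Agent.S1059

/-!
# S2187: the exceptional rows (hub, helper818)

* `genIn_G2_two` : `G₂(2)`;
* `row_g2`; `row_f4`, `row_e6`, `row_e7`, `row_e8` from the remaining inner-diagonal cases.
-/

set_option autoImplicit false
set_option linter.unusedSectionVars false
set_option linter.dupNamespace false

namespace Cfsg.Agent.H818.Gen.Exc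

open CoxeterSystem Subgroup Cfsg Cfsg.Lie Cfsg.Lie.ChevalleyDatum
open Cfsg.Agent.ChevalleyStructure Cfsg.Agent.ChevalleyStructure.Elts Cfsg.Agent.ChevalleyStructure.CoxeterGeom
  Cfsg.Agent.ChevalleyStructure.CoxeterGeomTypes Cfsg.Agent.ChevalleyStructure.NPerm
open Cfsg.Agent.Tits.Roots Cfsg.Agent.Tits.Core Cfsg.Agent.Nodes.Reps Cfsg.Agent.Nodes.BNOf
  Cfsg.Agent.Nodes.RGDChev Cfsg.Agent.Nodes.Bruhat
open Cfsg.Agent.CpAut.RgdUntw Cfsg.Agent.KFacts.RgdField Cfsg.Agent.KFacts.RgdChevCoord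
open Cfsg.Agent.BpExc Cfsg.Agent.BpExc.Tow Cfsg.Agent.BpExc.TowChev Cfsg.Agent.BpExc.FamExt Cfsg.Agent.BpExc.FamUntw
  Cfsg.Agent.BpExc.FamInst Cfsg.Agent.BpExc.LangFr Cfsg.Agent.BpExc.FamField
open Cfsg.Agent.GpExc.Field (glMap emb coe_emb glMap_xG emb_injective coe_glMap glMap_injective)
open Cfsg.Agent.H469.Exc Cfsg.Agent.H469.Exc.SigFr
open Cfsg.Agent.H818.Gen Cfsg.Agent.H972.Gen Cfsg.Agent.H316.U6 Cfsg.Agent.H28.GenF

section fixed

variable {D : ChevalleyDatum} {l : ℕ} {M : CoxeterMatrix (Fin l)} {hp : IsType D l M} {r : ℕ} [Fact r.Prime]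
  {F : Type} [Field F] [Fintype F]

/-- the fixed points of the standard data, `gcd (d, |F| - 1) = 1` -/
theorem StdM.fix_range {d : ℕ} {m : MData hp r (Fintype.card F) ↥(D.group F)} (S : StdM d m)
    (hc : Nat.gcd d (Fintype.card F - 1) = 1) {y : ↥(D.group (KK r))} (hy : m.σ y = y) : y ∈ m.ι.range := by
  have h := m.pow_dd y hy
  rwa [S.dd, hc, pow_one] at h

theorem StdM.card_fix {d : ℕ} {m : MData hp r (Fintype.card F) ↥(D.group F)} (S : StdM d m)
    (hc : Nat.gcd d (Fintype.card F - 1) = 1) : Nat.card ↥(fixedSubgroup m.σ) = Nat.card ↥(D.group F) := by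
  have h1 : fixedSubgroup m.σ = m.ι.range := by
    apply le_antisymm
    · intro y hy
      exact S.fix_range hc hy
    · rintro _ ⟨a, rfl⟩
      exact m.fix a
  rw [h1]
  exact (Nat.card_congr (MonoidHom.ofInjective m.inj).toEquiv).symm

end fixed

section rows

variable {r : ℕ} [hr : Fact r.Prime] {p : ℕ} {F : Type} [Field F] [Fintype F]

/-- `G₂(2)` -/
theorem genIn_G2_two (hpp : p.Prime) (h7 : 7 ≤ p) (m : MData RowsUntw.g2T r (Fintype.card F) ↥(chevG2.group F))
    (S : StdM 1 m) (hF : Fintype.card F = 2) : GenIn m p := by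
  have := Fact.mk hpp
  have := m.fin
  refine genY_of_not_dvd ?_
  rw [S.card_fix (Nat.gcd_one_left _)]
  have h1 := S1059.result hF
  rw [h1]
  intro h2
  have h3 : p ∣ 12096 := (Dvd.intro _ (pow_two p).symm).trans (by norm_num at h2 ⊢; exact h2)
  have h4 : p ∣ 2 ^ 6 * 3 ^ 3 * 7 := by norm_num; exact h3
  have h5 : p ≠ 2 := by omega
  have h6 : p ≠ 3 := by omega
  have h7' : p = 7 := by
    rcases (Nat.Prime.dvd_mul hpp).1 h4 with h | h
    · exfalso
      rcases (Nat.Prime.dvd_mul hpp).1 h with h | h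
      · exact h5 ((Nat.prime_dvd_prime_iff_eq hpp Nat.prime_two).1 (hpp.dvd_of_dvd_pow h))
      · exact h6 ((Nat.prime_dvd_prime_iff_eq hpp Nat.prime_three).1 (hpp.dvd_of_dvd_pow h))
    · exact (Nat.prime_dvd_prime_iff_eq hpp (by norm_num)).1 h
  subst h7'
  norm_num at h2

/-- **The row `G₂`.** -/
theorem row_g2 {r p : ℕ} [CharP F r] (hC : Cond r p) : Gen p ↥(chevG2.group F) := by
  have hr := Fact.mk hC.r_prime
  have hpp := Fact.mk hC.p_prime
  refine gen_g2 hC.p_prime hC.p_ne_two (fun F _ _ _ m S => ?_) F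
  have hq1 : 1 < Fintype.card F := Fintype.one_lt_card
  rcases (by omega : Fintype.card F = 2 ∨ Fintype.card F = 3 ∨ 4 ≤ Fintype.card F) with h | h | h
  · have hr2 : r = 2 := by
      have h1 := m.hq.trans h
      exact ((Nat.prime_dvd_prime_iff_eq hC.r_prime Nat.prime_two).1 (h1 ▸ dvd_pow_self r m.he.ne'))
    rcases hC.big with h7 | h7
    · exact genIn_G2_two hC.p_prime h7 m S h
    · exact absurd hr2 h7
  · have hr3 : r = 3 := by
      have h1 := m.hq.trans h
      exact ((Nat.prime_dvd_prime_iff_eq hC.r_prime Nat.prime_three).1 (h1 ▸ dvd_pow_self r m.he.ne'))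
    exact genIn_of_gen m S.cent (H751.Two.G2Three.gen_g2_three h hC.p_prime hC.p_ne_two (hr3 ▸ hC.p_ne_r))
  · have : IsSimpleGroup ↥(chevG2.group F) := by
      classical
      refine (S1055.result ?_).1
      have h1 : ∃ a : F, a ∉ ({0, 1} : Finset F) := by
        by_contra hcon
        push Not at hcon
        have h2 : Fintype.card F ≤ ({0, 1} : Finset F).card := by
          rw [← Finset.card_univ]
          exact Finset.card_le_card fun a _ => hcon a
        have h3 : ({0, 1} : Finset F).card ≤ 2 := Finset.card_le_two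
        omega
      obtain ⟨a, ha⟩ := h1
      simp only [Finset.mem_insert, Finset.mem_singleton, not_or] at ha
      exact ⟨a, ha⟩
    exact H225.Gen.genIn_G2 hC.p_prime hC.p_ne_r m hC.three_le h

theorem two_of_card {r : ℕ} (hr : r.Prime) {F : Type} [Field F] [Fintype F] {D : ChevalleyDatum} {l : ℕ}
    {M : CoxeterMatrix (Fin l)} {hp : IsType D l M} [Fact r.Prime] {K₀ : Type*} [Group K₀]
    (m : MData hp r (Fintype.card F) K₀) (h : Fintype.card F = 2) : r = 2 :=
  (Nat.prime_dvd_prime_iff_eq hr Nat.prime_two).1 ((m.hq.trans h) ▸ dvd_pow_self r m.he.ne')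

theorem five_le_card {r : ℕ} [hr : Fact r.Prime] {q : ℕ} {D : ChevalleyDatum} {l : ℕ}
    {M : CoxeterMatrix (Fin l)} {hp : IsType D l M} {K₀ : Type*} [Group K₀]
    (m : MData hp r q K₀) (h2 : r ≠ 2) (h3 : r ≠ 3) : 5 ≤ q := by
  have h4 : 5 ≤ r := by
    have h5 := hr.out.two_le
    have h6 : r ≠ 4 := by
      intro h7
      have := hr.out
      rw [h7] at this
      exact absurd this (by norm_num)
    omega
  rw [← m.hq]
  exact le_trans h4 (Nat.le_self_pow m.he.ne' r)

/-- **The row `F₄`** from `p = 3`. -/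
theorem row_f4 (H3 : ∀ (r : ℕ) [Fact r.Prime] (F : Type) [Field F] [Fintype F] [CharP F r]
      (m : MData RowsUntw.f4T r (Fintype.card F) ↥(chevF4.group F)), StdM 1 m → r ≠ 2 → 3 ≠ r →
      5 ≤ Fintype.card F → GenIn m 3)
    {r p : ℕ} [CharP F r] (hC : Cond r p) : Gen p ↥(chevF4.group F) := by
  have hr := Fact.mk hC.r_prime
  have hpp := Fact.mk hC.p_prime
  refine gen_f4 hC.p_prime hC.p_ne_two (fun F _ _ _ m S => ?_) F
  have hq1 : 1 < Fintype.card F := Fintype.one_lt_card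
  have h3p := hC.three_le
  rcases (by omega : p = 3 ∨ p = 4 ∨ 5 ≤ p) with h3 | h4 | h5
  · subst h3
    have h2 : r ≠ 2 := hC.big.resolve_left (by norm_num)
    exact H3 r F m S h2 hC.p_ne_r (five_le_card m h2 hC.p_ne_r.symm)
  · exact absurd hC.p_prime (by rw [h4]; norm_num)
  · rcases (by omega : Fintype.card F = 2 ∨ 3 ≤ Fintype.card F) with h | h
    · have hr2 := two_of_card hC.r_prime m h
      rcases hC.big with h7 | h7
      · exact genIn_of_gen m S.cent (H751.Two.Rows.gen_f4_two (by rw [Nat.card_eq_fintype_card]; exact h)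
          hC.p_prime h7)
      · exact absurd hr2 h7
    · exact H225.Gen.genIn_F4_row m (by rw [S.dd, Nat.gcd_one_left]) hC.p_prime hC.p_ne_r h5 h

/-- **The row `E₆`** from `p = 3`. -/
theorem row_e6 (H3 : ∀ (r : ℕ) [Fact r.Prime] (F : Type) [Field F] [Fintype F] [CharP F r]
      (m : MData RowsUntw.e6T r (Fintype.card F) ↥(chevE6.group F)), StdM 3 m → r ≠ 2 → 3 ≠ r →
      5 ≤ Fintype.card F → GenIn m 3)
    {r p : ℕ} [CharP F r] (hC : Cond r p) : Gen p ↥(chevE6.group F) := by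
  have hr := Fact.mk hC.r_prime
  have hpp := Fact.mk hC.p_prime
  refine gen_e6 hC.p_prime hC.p_ne_two (fun F _ _ _ m S => ?_) F
  have hq1 : 1 < Fintype.card F := Fintype.one_lt_card
  have h3p := hC.three_le
  have : IsSimpleGroup ↥(chevE6.group F) := (S1054.result chevE6 (by simp)).1
  rcases (by omega : p = 3 ∨ p = 4 ∨ 5 ≤ p) with h3 | h4 | h5
  · subst h3
    have h2 : r ≠ 2 := hC.big.resolve_left (by norm_num)
    exact H3 r F m S h2 hC.p_ne_r (five_le_card m h2 hC.p_ne_r.symm)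
  · exact absurd hC.p_prime (by rw [h4]; norm_num)
  · rcases (by omega : Fintype.card F = 2 ∨ 3 ≤ Fintype.card F) with h | h
    · have hr2 := two_of_card hC.r_prime m h
      rcases hC.big with h7 | h7
      · exact genIn_of_gen m S.cent (H751.Two.Rows.gen_e6_two (by rw [Nat.card_eq_fintype_card]; exact h)
          hC.p_prime h7)
      · exact absurd hr2 h7
    · exact H225.Gen.genIn_E6 hC.p_prime hC.p_ne_r m (Or.inl S.g) h5 h

/-- **The row `E₇`** from `p = 3`. -/
theorem row_e7 (H3 : ∀ (r : ℕ) [Fact r.Prime] (F : Type) [Field F] [Fintype F] [CharP F r]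
      (m : MData RowsUntw.e7T r (Fintype.card F) ↥(chevE7.group F)), StdM 2 m → r ≠ 2 → 3 ≠ r →
      5 ≤ Fintype.card F → GenIn m 3)
    {r p : ℕ} [CharP F r] (hC : Cond r p) : Gen p ↥(chevE7.group F) := by
  have hr := Fact.mk hC.r_prime
  have hpp := Fact.mk hC.p_prime
  refine gen_e7 hC.p_prime hC.p_ne_two (fun F _ _ _ m S => ?_) F
  have hq1 : 1 < Fintype.card F := Fintype.one_lt_card
  have h3p := hC.three_le
  have : IsSimpleGroup ↥(chevE7.group F) := (S1054.result chevE7 (by simp)).1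
  rcases (by omega : p = 3 ∨ p = 4 ∨ 5 ≤ p) with h3 | h4 | h5
  · subst h3
    have h2 : r ≠ 2 := hC.big.resolve_left (by norm_num)
    exact H3 r F m S h2 hC.p_ne_r (five_le_card m h2 hC.p_ne_r.symm)
  · exact absurd hC.p_prime (by rw [h4]; norm_num)
  · rcases (by omega : Fintype.card F = 2 ∨ 3 ≤ Fintype.card F) with h | h
    · have hr2 := two_of_card hC.r_prime m h
      rcases hC.big with h7 | h7
      · exact genIn_of_gen m S.cent (H751.Two.Rows.gen_e7_two (by rw [Nat.card_eq_fintype_card]; exact h)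
          hC.p_prime h7)
      · exact absurd hr2 h7
    · exact H225.Gen.genIn_E7 hC.p_prime hC.p_ne_r m h5 h

/-- **The row `E₈`** from `p = 3`, `p = 5` and `p ∣ q² + 1`. -/
theorem row_e8 (H3 : ∀ (r : ℕ) [Fact r.Prime] (F : Type) [Field F] [Fintype F] [CharP F r]
      (m : MData RowsUntw.e8T r (Fintype.card F) ↥(chevE8.group F)), StdM 1 m → r ≠ 2 → 3 ≠ r →
      5 ≤ Fintype.card F → GenIn m 3)
    (H5 : ∀ (r : ℕ) [Fact r.Prime] (F : Type) [Field F] [Fintype F] [CharP F r]
      (m : MData RowsUntw.e8T r (Fintype.card F) ↥(chevE8.group F)), StdM 1 m → r ≠ 2 → 5 ≠ r →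
      3 ≤ Fintype.card F → GenIn m 5)
    (Hsq : ∀ (r : ℕ) [Fact r.Prime] (F : Type) [Field F] [Fintype F] [CharP F r]
      (m : MData RowsUntw.e8T r (Fintype.card F) ↥(chevE8.group F)), StdM 1 m → ∀ p : ℕ, p.Prime → 7 ≤ p → p ≠ r →
      3 ≤ Fintype.card F → p ∣ Fintype.card F ^ 2 + 1 → GenIn m p)
    {r p : ℕ} [CharP F r] (hC : Cond r p) : Gen p ↥(chevE8.group F) := by
  have hr := Fact.mk hC.r_prime
  have hpp := Fact.mk hC.p_prime
  refine gen_e8 hC.p_prime hC.p_ne_two (fun F _ _ _ m S => ?_) F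
  have hq1 : 1 < Fintype.card F := Fintype.one_lt_card
  have h3p := hC.three_le
  have : IsSimpleGroup ↥(chevE8.group F) := (S1054.result chevE8 (by simp)).1
  rcases (by omega : p = 3 ∨ p = 4 ∨ p = 5 ∨ p = 6 ∨ 7 ≤ p) with h3 | h4 | h5 | h6 | h7
  · subst h3
    have h2 : r ≠ 2 := hC.big.resolve_left (by norm_num)
    exact H3 r F m S h2 hC.p_ne_r (five_le_card m h2 hC.p_ne_r.symm)
  · exact absurd hC.p_prime (by rw [h4]; norm_num)
  · subst h5
    have h2 : r ≠ 2 := hC.big.resolve_left (by norm_num)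
    refine H5 r F m S h2 hC.p_ne_r ?_
    have h4 : Fintype.card F ≠ 2 := fun h => h2 (two_of_card hC.r_prime m h)
    omega
  · exact absurd hC.p_prime (by rw [h6]; norm_num)
  · rcases (by omega : Fintype.card F = 2 ∨ 3 ≤ Fintype.card F) with h | h
    · exact genIn_of_gen m S.cent (H751.Two.Rows.gen_e8_two (by rw [Nat.card_eq_fintype_card]; exact h)
          hC.p_prime h7)
    · by_cases hd : p ∣ Fintype.card F ^ 2 + 1
      · exact Hsq r F m S p hC.p_prime h7 hC.p_ne_r h hd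
      · exact H225.Gen.genIn_E8 hC.p_prime hC.p_ne_r m h7 h hd

end rows

end Cfsg.Agent.H818.Gen.Exc
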