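import Cfsg.Agent.H818.Gen.Asm2
import Cfsg.Agent.H818.Gen.ExcStd
import Cfsg.Agent.H230.X3.Exc
import Cfsg.Agent.S1082

/-!
# S2187: `E₈`, `p ∣ q² + 1` (hub, helper818; X3 of helper230)

* `gen_d4` : `D₄(q)` from the orthogonal row;
* `genIn_E8_seven` : `GenIn m p`, `7 ≤ p`.
* `genIn_E8_toral` : toral subgroups, every odd `p`.
-/

set_option autoImplicit false
set_option linter.unusedSectionVars false
set_option linter.dupNamespace false

namespace Cfsg.Agent.H818.Gen.Exc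

open CoxeterSystem Subgroup Cfsg Cfsg.Lie Cfsg.Lie.ChevalleyDatum
open Cfsg.Agent.ChevalleyStructure Cfsg.Agent.ChevalleyStructure.Elts Cfsg.Agent.ChevalleyStructure.CoxeterGeom
  Cfsg.Agent.ChevalleyStructure.CoxeterGeomTypes Cfsg.Agent.ChevalleyStructure.NPerm
open Cfsg.Agent.Tits.Roots Cfsg.Agent.Tits.Core Cfsg.Agent.Nodes.Reps Cfsg.Agent.Nodes.BNOf
  Cfsg.Agent.Nodes.RGDChev Cfsg.Agent.Nodes.Bruhat
open Cfsg.Agent.KFacts.RgdField Cfsg.Agent.KFacts.RgdChevCoord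
open Cfsg.Agent.BpExc Cfsg.Agent.BpExc.Tow Cfsg.Agent.BpExc.TowChev Cfsg.Agent.BpExc.LangFr
open Cfsg.Agent.H469.Exc Cfsg.Agent.H316.U3 Cfsg.Agent.H818.Gen Cfsg.Agent.H972.Gen Cfsg.Agent.H316.U6 Cfsg.Agent.H28.GenF

/-- `D₄(q)` -/
theorem gen_d4 {r p : ℕ} (hC : Cond r p) (h3 : p ≠ 3) {F : Type} [Field F] [Fintype F] [CharP F r] :
    Gen p ↥(chevD4.group F) := by
  obtain ⟨e⟩ := S1082.result (F := F)
  exact Gen.congr e.symm (H889.Gen.Row.row_oplus hC (fun h => absurd h h3) (le_refl 4))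

/-- a field with `r ^ e` elements has characteristic `r` -/
theorem charP_of_card {r : ℕ} (hr : r.Prime) {e : ℕ} {F : Type} [Field F] [Fintype F] (h : Fintype.card F = r ^ e) :
    CharP F r := by
  obtain ⟨r', hr'⟩ := CharP.exists F
  obtain ⟨n, hp', hn⟩ := FiniteField.card F r'
  have h1 : r' ∣ r ^ e := by
    rw [← h, hn]
    exact dvd_pow_self r' n.ne_zero
  have h2 : r' = r := (Nat.prime_dvd_prime_iff_eq hp' hr).1 (hp'.dvd_of_dvd_pow h1)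
  exact h2 ▸ hr'

/-- toral subgroups of `E₈`, `p ≠ 3` -/
theorem genIn_E8_toral {r : ℕ} [hr : Fact r.Prime] {q : ℕ} {K₀ : Type} [Group K₀] (m : MData RowsUntw.e8T r q K₀)
    [IsSimpleGroup K₀] {p : ℕ} (hC : Cond r p) (hq : 3 ≤ q) {E : Subgroup ↥(chevE8.group (KK r))}
    (hE : IsElementaryAbelian p E) (hσ : ∀ y ∈ E, m.σ y = y) (hc : p ≤ Nat.card ↥E) {z : ↥(chevE8.group (KK r))}
    (hz : ∀ a ∈ E, z * a * z⁻¹ ∈ TT chevE8 (KK r)) : GamY m.ι p E = ⊤ := by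
  have := Fact.mk hC.p_prime
  refine H230.X3.x3 m hq hC.p_ne_two (fun hd F _ _ hF => ?_) hE hσ hc hz
  have h3 : p ≠ 3 := by
    rintro rfl
    exact H225.Gen.three_not_dvd_sq q hd
  have : CharP F r := charP_of_card hr.out (hF.trans m.hq.symm)
  exact gen_d4 hC h3

/-- **`E₈`, `7 ≤ p`** -/
theorem genIn_E8_seven {r : ℕ} [hr : Fact r.Prime] {q : ℕ} {K₀ : Type} [Group K₀] (m : MData RowsUntw.e8T r q K₀)
    [IsSimpleGroup K₀] {p : ℕ} (hC : Cond r p) (h7 : 7 ≤ p) (hq : 3 ≤ q) : GenIn m p := by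
  have := Fact.mk hC.p_prime
  intro E hE hσ hE2
  have := H225.Gen.finite_of_fix m hσ
  obtain ⟨z, hz⟩ := H225.Gen.toral_all RowsUntw.e8T hC.p_prime hC.p_ne_r
    (Or.inl ⟨by omega, fun _ => by omega⟩) hE
  exact genIn_E8_toral m hC hq hE hσ (le_trans (Nat.le_self_pow two_ne_zero p) hE2) hz

end Cfsg.Agent.H818.Gen.Exc
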