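import Cfsg.Agent.H418.Mono.NoPlus5
import Cfsg.Agent.H418.Mono.A4X
import Cfsg.Agent.H889.Mono.FiveLam

/-!
# S2187: `lam2` for `E₈`, `p = 5` (helper889's `lam_root`, helper418's `a4x_root`)
-/

set_option autoImplicit false
set_option linter.unusedSectionVars false
set_option linter.dupNamespace false

namespace Cfsg.Agent.H818.Gen.Lam5

open CoxeterSystem Cfsg Cfsg.Lie Cfsg.Lie.ChevalleyDatum
open Cfsg.Agent.ChevalleyStructure Cfsg.Agent.ChevalleyStructure.CoxeterGeom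
open Cfsg.Agent.Tits.Roots Cfsg.Agent.Nodes.RGDChev Cfsg.Agent.Nodes.Reps
open Cfsg.Agent.H225.Gen (LL hi_E8 LL_root)
open Cfsg.Agent.H418.Mono

theorem pLam5 {M : CoxeterMatrix (Fin 8)} (hp : IsType chevE8 8 M) : PLam5 hp := by
  intro w hw b hb h1
  have := Cfsg.Agent.Nodes.RGDChev.finite_W hp M.toCoxeterSystem
  have hbr := LL_root hi_E8 hp M.toCoxeterSystem hb
  rcases H889.Mono.Five.lam_root M.toCoxeterSystem hp.isCartan (by simp) hw hbr h1 with h2 | ⟨r, -, hroot, hc, H⟩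
  · exact ⟨b, hb, h1, h2⟩
  · obtain ⟨x, hx, hx1, hx2, hx3, hx4⟩ := a4x_root (hp := hp) (cs := M.toCoxeterSystem) (hroot 0) (hroot 2) (hroot 4)
      (hroot 1) (by rw [hc]; decide) (by rw [hc]; decide) (by rw [hc]; decide) (by rw [hc]; decide)
      (by rw [hc]; decide) (by rw [hc]; decide)
    have hxL : x ∈ LL M.toCoxeterSystem hp := LL8 hx
    obtain ⟨v, hv⟩ := hxL
    obtain ⟨u, hu⟩ := hb
    refine ⟨x, LL8 hx, H x hx hx1 hx2 hx3 hx4 ⟨v * u⁻¹, ?_⟩⟩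
    rw [hv, hu, ← rep_mul_apply, inv_mul_cancel_right]

end Cfsg.Agent.H818.Gen.Lam5
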