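import Cfsg.Agent.H818.Gen.AsmExc
import Cfsg.Agent.H28.GenF.TwSixRow
import Cfsg.Agent.H751.Two.Rows
import Cfsg.Agent.H225.Gen.Row
import Cfsg.Agent.S1070

/-!
# S2187: the row of `²E₆(q)` (hub, helper818) from `p = 3`, inner-diagonal, and the overgroup theorem
-/

set_option autoImplicit false
set_option linter.unusedSectionVars false
set_option linter.dupNamespace false

namespace Cfsg.Agent.H818.Gen.Exc

open CoxeterSystem Subgroup Cfsg Cfsg.Lie Cfsg.Lie.ChevalleyDatum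
open Cfsg.Agent.ChevalleyStructure Cfsg.Agent.ChevalleyStructure.Elts Cfsg.Agent.ChevalleyStructure.CoxeterGeom
  Cfsg.Agent.ChevalleyStructure.CoxeterGeomTypes Cfsg.Agent.ChevalleyStructure.NPerm
open Cfsg.Agent.BpExc Cfsg.Agent.BpExc.FamUntw Cfsg.Agent.BpExc.FamInst
open Cfsg.Agent.H469.Exc Cfsg.Agent.H316.U6
open Cfsg.Agent.BpExc.FamTw.Six (em em_injective coe_em)
open Cfsg.Agent.ChevalleyStructure.TwE6Basic (hE6 sg exists_frob)
open Cfsg.Agent.H818.Gen Cfsg.Agent.H972.Gen Cfsg.Agent.H28.GenF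

/-- **The row `²E₆`**. -/
theorem row_te6 (OV : OverE6)
    (H3 : ∀ (r : ℕ) [Fact r.Prime] (K : Type) [Field K] [Fintype K] [CharP K r] (q : ℕ)
      (m : MData Nodes.RGDTwE6.hp r q ↥(twistedE6 K q)), IsPrimePow q → Fintype.card K = q ^ 2 →
      m.g = H720.TwFr.permE H720.TwFr.rho6 → r ≠ 2 → 3 ≠ r → 5 ≤ q → GenIn m 3)
    {K : Type} [Field K] [Fintype K] {r p : ℕ} [CharP K r] (hC : Cond r p) {q : ℕ} (hq : IsPrimePow q)
    (hK : Fintype.card K = q ^ 2) : Gen p ↥(twistedE6 K q) := by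
  have hr := Fact.mk hC.r_prime
  have hpp := Fact.mk hC.p_prime
  refine gen_te6 (r := r) OV hC.p_prime hC.p_ne_two ?_ K q hq hK
  intro K _ _ _ q n f m hq hK hn hι hσ hdd hg
  have h3p := hC.three_le
  have : IsSimpleGroup ↥(twistedE6 K q) := (S1070.result hq hK).1
  rcases (by omega : p = 3 ∨ p = 4 ∨ 5 ≤ p) with h3 | h4 | h5
  · subst h3
    have h2 : r ≠ 2 := hC.big.resolve_left (by norm_num)
    exact H3 r K q m hq hK hg h2 hC.p_ne_r (five_le_card m h2 hC.p_ne_r.symm)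
  · exact absurd hC.p_prime (by rw [h4]; norm_num)
  · have hq2 := hq.two_le
    rcases (by omega : q = 2 ∨ 3 ≤ q) with h | h
    · subst h
      have hr2 : r = 2 := (Nat.prime_dvd_prime_iff_eq hC.r_prime Nat.prime_two).1 (by
        have h1 := m.hq
        rw [← h1]
        exact dvd_pow_self r m.he.ne')
      rcases hC.big with h7 | h7
      · obtain ⟨φ, hφ, hqq⟩ := exists_frob hq hK
        refine genIn_of_gen m (fun z hz => ?_) (H751.Two.Rows.gen_te6_two (by rw [hK]; norm_num) hC.p_prime h7)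
        rw [hι] at hz
        exact H522.FamTw.Six.eq_one_of_comm hφ hqq f z hz
      · exact absurd hr2 h7
    · exact H225.Gen.genIn_E6 hC.p_prime hC.p_ne_r m (Or.inr hg) h5 h

end Cfsg.Agent.H818.Gen.Exc
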