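import Cfsg.Agent.H496.Mono.Asm
import Cfsg.Agent.H496.Mono.Root
import Cfsg.Agent.H321.Mono.OrbC
import Cfsg.Agent.H321.Mono.OrbN
import Cfsg.Agent.H655.Mono.Orth
import Cfsg.Agent.H875.Mono.NoPlus
import Cfsg.Agent.H875.Mono.Trich
import Cfsg.Agent.H225.Mono.End
import Cfsg.Agent.H900.Fra.Rows

/-!
# S2187: `p = 3` for the exceptional rows (X4), the assembly (hub, helper818)

* `pcs` : the common pieces;
* `E7_three`, `E8_three`; `F4_three` from `P8b`; `E6_three`, `TE6_three` from `P8c`.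
-/

set_option autoImplicit false
set_option linter.unusedSectionVars false
set_option linter.dupNamespace false

namespace Cfsg.Agent.H818.Gen.Three

open CoxeterSystem Cfsg Cfsg.Lie Cfsg.Lie.ChevalleyDatum
open Cfsg.Agent.ChevalleyStructure Cfsg.Agent.ChevalleyStructure.Elts Cfsg.Agent.ChevalleyStructure.CoxeterGeom
  Cfsg.Agent.ChevalleyStructure.CoxeterGeomTypes Cfsg.Agent.ChevalleyStructure.NPerm
open Cfsg.Agent.Tits.Roots Cfsg.Agent.Tits.Core Cfsg.Agent.Nodes Cfsg.Agent.Nodes.Reps Cfsg.Agent.Nodes.BNOf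
  Cfsg.Agent.Nodes.SubComb Cfsg.Agent.Nodes.RGDChev Cfsg.Agent.Nodes.Bruhat Cfsg.Agent.Nodes.Coroot
open Cfsg.Agent.KFacts.RgdField Cfsg.Agent.KFacts.RgdChevCoord
open Cfsg.Agent.BpExc Cfsg.Agent.BpExc.TorCent Cfsg.Agent.BpExc.TorChev Cfsg.Agent.BpExc.Tow
  Cfsg.Agent.BpExc.TowChev Cfsg.Agent.BpExc.Fr Cfsg.Agent.BpExc.LangFr
open Cfsg.Agent.H469.Exc Cfsg.Agent.H316.U6 Cfsg.Agent.H818.Gen Cfsg.Agent.H818.Mono
open Cfsg.Agent.H496.Mono Cfsg.Agent.H818.StrP.UTab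

universe v

section gen

variable {D : ChevalleyDatum} {l : ℕ} {M : CoxeterMatrix (Fin l)} {hp : IsType D l M} {r : ℕ} [hr : Fact r.Prime]
  {q : ℕ} {K₀ : Type v} [Group K₀]

/-- the common pieces -/
theorem pcs (h : HiList D) (hG : D ≠ chevG2) (m : MData hp r q K₀) : Pcs m := by
  have : Fact (Nat.Prime 3) := ⟨Nat.prime_three⟩
  exact
  { trich := H875.Mono.ptrich h hp
    orbF := orbF (H225.Gen.center_KK h r) h 3
    orbO := H655.Mono.p5_orbO h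
    orbA := H321.Mono.p5_orbA h hG
    orbN := H321.Mono.p5_orbN h hG
    noPlusA := H875.Mono.pnoPlusA h m }

/-- multiplication by a sign -/
theorem exists_smul {l : ℕ} {ε : ℤ} (hε : ε = 1 ∨ ε = -1) : ∃ γ : (Fin l → ℤ) ≃+ (Fin l → ℤ), ∀ x, γ x = ε • x := by
  rcases hε with rfl | rfl
  · exact ⟨AddEquiv.refl _, fun x => by simp⟩
  · exact ⟨AddEquiv.neg _, fun x => by simp⟩

theorem elab3 {G : Type*} [Group G] {E : Subgroup G} (hE : IsElementaryAbelian 3 E) : IsPGroup 3 E := fun a =>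
  ⟨1, by rw [pow_one]; exact Subtype.ext (hE.2 a.1 a.2)⟩

end gen

variable {r q : ℕ} [hr : Fact r.Prime] {K₀ : Type v} [Group K₀] [IsSimpleGroup K₀]

/-- **`E₇`, p = 3.** -/
theorem E7_three {hp : IsType chevE7 7 CoxeterMatrix.E₇} (m : MData hp r q K₀) (hm : m.g = AddEquiv.refl _)
    (hr2 : r ≠ 2) (hr3 : 3 ≠ r) (hq : 5 ≤ q) : GenIn m 3 := by
  have hhi : HiList chevE7 := H225.Gen.hi_E7
  have hG : chevE7 ≠ chevG2 := ne_of_apply_ne ChevalleyDatum.nroots (by decide +kernel)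
  have hD : chevE7 ≠ chevD4 := ne_of_apply_ne ChevalleyDatum.nroots (by decide +kernel)
  refine genIn_E7_three m (pcs hhi hG m) (H225.Mono.p8a m hhi hG hD) ?_ hr2 hr3 hq
  intro ε hε
  obtain ⟨γ, hγ⟩ := exists_smul (l := 7) hε.1
  exact ⟨γ, hγ, fun E hE hσ => H900.Fra.E7_three m hm hε.1 hε.2 hγ (elab3 hE) hσ⟩

/-- **`E₈`, p = 3.** -/
theorem E8_three {hp : IsType chevE8 8 CoxeterMatrix.E₈} (m : MData hp r q K₀) (hm : m.g = AddEquiv.refl _)
    (hr2 : r ≠ 2) (hr3 : 3 ≠ r) (hq : 5 ≤ q) : GenIn m 3 := by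
  have hhi : HiList chevE8 := H225.Gen.hi_E8
  have hG : chevE8 ≠ chevG2 := ne_of_apply_ne ChevalleyDatum.nroots (by decide +kernel)
  have hD : chevE8 ≠ chevD4 := ne_of_apply_ne ChevalleyDatum.nroots (by decide +kernel)
  refine genIn_E8_three m (pcs hhi hG m) (H225.Mono.p8a m hhi hG hD) ?_ hr2 hr3 hq
  intro ε hε
  obtain ⟨γ, hγ⟩ := exists_smul (l := 8) hε.1
  exact ⟨γ, hγ, fun E hE hσ => H900.Fra.E8_three m hm hε.1 hε.2 hγ (elab3 hE) hσ⟩

/-- **`F₄`, p = 3.** -/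
theorem F4_three {hp : IsType chevF4 4 CoxeterMatrix.F₄} (hP8b : P8b hp r) (m : MData hp r q K₀)
    (hm : m.g = AddEquiv.refl _) (hr2 : r ≠ 2) (hr3 : 3 ≠ r) (hq : 5 ≤ q) : GenIn m 3 := by
  have hhi : HiList chevF4 := H225.Gen.hi_F4
  have hG : chevF4 ≠ chevG2 := ne_of_apply_ne ChevalleyDatum.nroots (by decide +kernel)
  have hD : chevF4 ≠ chevD4 := ne_of_apply_ne ChevalleyDatum.nroots (by decide +kernel)
  refine genIn_F4_three m (pcs hhi hG m) (H225.Mono.p8a m hhi hG hD) hP8b ?_ hr2 hr3 hq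
  intro ε hε
  obtain ⟨γ, hγ⟩ := exists_smul (l := 4) hε.1
  exact ⟨γ, hγ, fun E hE hσ => H900.Fra.F4_three m hm hε.1 hε.2 hγ (elab3 hE) hσ⟩

/-- **`E₆`, `²E₆`, p = 3.** -/
theorem E6_three {hp : IsType chevE6 6 CoxeterMatrix.E₆} (m : MData hp r q K₀) (hP8c : P8c m)
    (hm : m.g = AddEquiv.refl _ ∨ m.g = H720.TwFr.permE H720.TwFr.rho6) (hr2 : r ≠ 2) (hr3 : 3 ≠ r) (hq : 5 ≤ q) :
    GenIn m 3 := by
  have hhi : HiList chevE6 := H225.Gen.hi_E6
  have hG : chevE6 ≠ chevG2 := ne_of_apply_ne ChevalleyDatum.nroots (by decide +kernel)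
  have hD : chevE6 ≠ chevD4 := ne_of_apply_ne ChevalleyDatum.nroots (by decide +kernel)
  refine genIn_E6_three m (pcs hhi hG m) (H225.Mono.p8a m hhi hG hD) (H875.Mono.pnoPlusB m) hP8c ?_ hr2 hr3 hq
  intro ε hε
  have h1 : 1 ≤ q := by omega
  rcases hε.1 with rfl | rfl
  · have h3 : 3 ∣ q - 1 := by
      have := hε.2
      omega
    rcases hm with hm | hm
    · refine ⟨AddEquiv.refl _, Or.inl fun x => by simp, fun E hE hσ => ?_⟩
      exact H900.Fra.E6_matched m hm h3 (fun y => rfl) (elab3 hE) hσ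
    · refine ⟨H720.TwFr.permE H720.TwFr.rho6, Or.inr fun x => by simp, fun E hE hσ => ?_⟩
      exact H900.Fra.TE6_unmatched m hm h3 (fun y => rfl) (elab3 hE) hσ
  · have h3 : 3 ∣ q + 1 := by
      have := hε.2
      omega
    rcases hm with hm | hm
    · refine ⟨(H720.TwFr.permE H720.TwFr.rho6).trans (AddEquiv.neg _), Or.inr fun x => by simp, fun E hE hσ => ?_⟩
      exact H900.Fra.E6_unmatched m hm h3 (fun y => rfl) (elab3 hE) hσ
    · refine ⟨AddEquiv.neg _, Or.inl fun x => by simp, fun E hE hσ => ?_⟩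
      exact H900.Fra.TE6_matched m hm h3 (fun y => rfl) (elab3 hE) hσ

end Cfsg.Agent.H818.Gen.Three
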