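import Cfsg.Agent.H350.Tri.RowD4
import Cfsg.Agent.H350.Tri.RowTD4
import Cfsg.Agent.H474.Tri.Psi
import Cfsg.Agent.H705.Tri.A1
import Cfsg.Agent.H140.Tri.Exc
import Cfsg.Agent.H71.Tri.MMt
import Cfsg.Agent.H907.Tri9.Main
import Cfsg.Agent.H314.G3.MainU
import Cfsg.Agent.H725.Tri.CenterCor
import Cfsg.Agent.H818.Gen.Asm2
import Cfsg.Agent.H557.Gp.NcMain

/-!
# S2187, row TRI: the assembly of the pieces (hub, helper818; interface of helper350)

* `pieces`, `nine`;
* `tri` : `D₄(q)`; `gen_td4_three` : `³D₄(q)`, `p = 3`.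
-/

set_option autoImplicit false
set_option linter.dupNamespace false
set_option linter.unusedSectionVars false

namespace Cfsg.Agent.H818.Gen.TriFin

open Cfsg Cfsg.Lie Cfsg.Agent.H350.Tri Cfsg.Agent.H818.Gen

variable {r : ℕ} [hrf : Fact r.Prime]

theorem cond_three (hr5 : 5 ≤ r) : Cond r 3 where
  r_prime := hrf.out
  p_prime := Nat.prime_three
  p_ne_two := by norm_num
  p_ne_r := by omega
  big := Or.inr (by omega)

theorem gen_psl2 (hr5 : 5 ≤ r) (F : Type) [Field F] [Fintype F] [CharP F r] :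
    Gen 3 (Matrix.ProjectiveSpecialLinearGroup (Fin 2) F) :=
  row_psl (cond_three hr5) (H557.Gp.linearNC Nat.prime_three (by norm_num)) le_rfl fun _ => by
    obtain ⟨n, -, hn⟩ := FiniteField.card F r
    rw [hn]
    exact le_trans (by omega : 4 ≤ r) (Nat.le_self_pow n.ne_zero r)

theorem card_ge (hr5 : 5 ≤ r) (F : Type) [Field F] [Fintype F] [CharP F r] : 4 ≤ Fintype.card F := by
  obtain ⟨n, -, hn⟩ := FiniteField.card F r
  rw [hn]
  exact le_trans (by omega : 4 ≤ r) (Nat.le_self_pow n.ne_zero r)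

/-- **The pieces.** -/
theorem pieces (hr5 : 5 ≤ r) : Pieces r where
  comp := by
    intro S hS e he τ hτ g F hg hpos
    have h3 : Fact (Nat.Prime 3) := ⟨Nat.prime_three⟩
    rcases hS with rfl | rfl
    · exact H474.Tri.compY_A2 hr5 (fun F _ _ _ => H314.G3.gen_SL3 hrf.out hr5)
        (fun F _ _ _ q hF => H314.G3.gen_SU3 hrf.out hr5 hF) he hτ F hg hpos
    · exact H705.Tri.compY_A1 hr5 (fun F _ _ _ => H725.Tri.gen_sl_two (by norm_num) (card_ge (r := r) hr5 F)
        (gen_psl2 hr5 F)) (fun F _ _ _ => gen_psl2 hr5 F) he hτ F hg hpos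
  exc := fun ht h3 h1 hfus => H140.Tri.exc (by omega) ht h3 h1 hfus
  rmm := fun ht h3 hu hur => H71.Tri.mem_MMt ht Nat.prime_three (by omega) h3 hu hur

theorem nine (hr5 : 5 ≤ r) : Nine r where
  nine := fun hn _ hθ h3 hc => H907.Tri9.exists_nine hr5 hn hθ h3 hc
  std := fun n => H907.Tri9.exists_nine_std (by omega) (n := n) (i := 0)

theorem five_le {r : ℕ} (hC : Cond r 3) : 5 ≤ r := by
  have h1 := hC.r_prime.two_le
  have h2 : r ≠ 2 := hC.big.resolve_left (by norm_num)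
  have h3 : r ≠ 3 := hC.p_ne_r.symm
  have h4 : r ≠ 4 := by
    rintro rfl
    exact absurd hC.r_prime (by norm_num)
  omega

/-- **`D₄(q)`, `p = 3`, triality.** -/
theorem tri (r : ℕ) (hC : Cond r 3) : H889.Gen.Row.Tri r := by
  have := Fact.mk hC.r_prime
  have hr5 := five_le hC
  intro F _ _ _ E₀ hE hc hnot
  exact tri_plus (pieces hr5) (nine hr5) hr5 F E₀ hE hc hnot

/-- **`³D₄(q)`, `p = 3`.** -/
theorem gen_td4_three {r : ℕ} (hC : Cond r 3) {K : Type} [Field K] [Fintype K] [CharP K r] {q : ℕ}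
    (hq : IsPrimePow q) (hK : Fintype.card K = q ^ 3) : Gen 3 ↥(twistedD4 K q) := by
  have := Fact.mk hC.r_prime
  have hr5 := five_le hC
  exact gen_td4 (pieces hr5) (nine hr5) hr5 hq hK

end Cfsg.Agent.H818.Gen.TriFin
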