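import Cfsg.Agent.H818.Gen.Asm1
import Cfsg.Agent.H818.Gen.Asm2
import Cfsg.Agent.H818.Gen.AsmExc
import Cfsg.Agent.H818.Gen.E8Sq
import Cfsg.Agent.H818.Gen.TriFin
import Cfsg.Agent.H818.Gen.TE6
import Cfsg.Agent.H818.Gen.Three
import Cfsg.Agent.H82.Mono.E6u
import Cfsg.Agent.H28.TwOv.OverE6
import Cfsg.Agent.H900.TwD.Row
import Cfsg.Agent.H751.Mono.F4Short
import Cfsg.Agent.H972.TwOv.D4Final
import Cfsg.Agent.H418.Mono.Tri5
import Cfsg.Agent.H418.Mono.Lat5
import Cfsg.Agent.H418.Mono.Union5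
import Cfsg.Agent.H818.Gen.Lam5
import Cfsg.Agent.H557.Gp.NcMain

/-!
# S2187: all rows (hub file, helper818)
-/

set_option autoImplicit false
set_option linter.dupNamespace false

namespace Cfsg.Agent.H818.Gen

open Cfsg Cfsg.Lie Cfsg.Agent.BpExc Cfsg.Agent.H316.U6 Cfsg.Agent.H818.Gen.Exc

universe u

theorem tri' {r p : ℕ} (hC : Cond r p) (h : p = 3) : H889.Gen.Row.Tri r := by
  subst h
  exact TriFin.tri r hC

theorem over_d4' : H900.TwD.OverD4 := by
  intro K _ _ r _ _ q q0 p h1 h2 h3 h4 h5 K0 h6 H h7 h8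
  exact H972.TwOv.over_d4 r h1 h2 h3 h4 h5 K0 h6 H h7 h8

/-- **The rows.** -/
theorem genRows : GenRows.{u} where
  psl hC _ hn h4 := row_psl hC (H557.Gp.linearNC hC.p_prime hC.p_ne_two) hn h4
  psp hC _ hm h := row_psp hC hm h
  psu hC _ _ hF hn h32 := row_psu hC (H557.Gp.unitaryNC hC.p_prime hC.p_ne_two) hF hn h32
  oodd hC _ hm ho := H889.Gen.Row.row_oodd hC (fun h => tri' hC h) hm ho
  oplus hC _ hm := H889.Gen.Row.row_oplus hC (fun h => tri' hC h) hm
  ominus hC _ _ _ hm hab := H889.Gen.Row.row_ominus hC (fun h => tri' hC h) hm hab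
  g2 hC _ := row_g2 hC
  f4 hC := row_f4 (fun r _ F _ _ _ m S h2 h3 h5 => by
    have : IsSimpleGroup ↥(chevF4.group F) := (S1054.result chevF4 (by simp)).1
    exact Three.F4_three H751.Mono.p8b m S.g h2 h3 h5) hC
  e6 hC := row_e6 (fun r _ F _ _ _ m S h2 h3 h5 => by
    have : IsSimpleGroup ↥(chevE6.group F) := (S1054.result chevE6 (by simp)).1
    exact Three.E6_three m (H82.Mono.p8c m) (Or.inl S.g) h2 h3 h5) hC
  e7 hC := row_e7 (fun r _ F _ _ _ m S h2 h3 h5 => by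
    have : IsSimpleGroup ↥(chevE7.group F) := (S1054.result chevE7 (by simp)).1
    exact Three.E7_three m S.g h2 h3 h5) hC
  e8 hC := row_e8 (fun r _ F _ _ _ m S h2 h3 h5 => by
    have : IsSimpleGroup ↥(chevE8.group F) := (S1054.result chevE8 (by simp)).1
    exact Three.E8_three m S.g h2 h3 h5) (H418.Mono.e8five_of (H418.Mono.pTrich5 _) (H418.Mono.pStab5 _) (H418.Mono.pSplit5 _) (Lam5.pLam5 _)) (fun r _ F _ _ _ m _ p hp h7 hpr hq _ => by
    have : IsSimpleGroup ↥(chevE8.group F) := (S1054.result chevE8 (by simp)).1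
    exact genIn_E8_seven m ⟨Fact.out, hp, by omega, hpr, Or.inl h7⟩ h7 hq) hC
  te6 hC _ hq hK := row_te6 H28.TwOv.over_e6 (fun r _ K _ _ _ q m hq hK hg h2 h3 h5 => by
    have : IsSimpleGroup ↥(twistedE6 K q) := (S1070.result hq hK).1
    exact Three.E6_three m (H82.Mono.p8c m) (Or.inr hg) h2 h3 h5) hC hq hK
  td4 hC _ hq hK := by
    rcases (Nat.lt_or_ge 3 _) with h | h
    · exact H900.TwD.row_td4 over_d4' hC h hq hK
    · have h3 := le_antisymm h hC.three_le
      subst h3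
      exact TriFin.gen_td4_three hC hq hK
  sz hC h := row_sz hC h
  tf4 hC h := row_tf4 hC h
  ree hC h := row_ree hC h

end Cfsg.Agent.H818.Gen
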