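import Cfsg.Agent.H508.Tor.Toral
import Cfsg.Agent.H818.Gen.Defs

/-!
# S2187: all elementary abelian `p`-subgroups are toral, non-torsion primes (helper818)

* `tors_of_refl` : the certificate with arbitrary reflections;
* `torsG2`, `torsD4` : `p = 3` in types `G₂`, `D₄`;
* `TorCase D p` : `5 ≤ p` and not (`E₈`, `5`), or `p = 3` and `D = G₂, D₄`;
* `exists_toral` : `TorCase D p`: every finite elementary abelian `p`-subgroup (any rank) of `D.group k` is toral.
-/

set_option autoImplicit false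
set_option linter.unusedSectionVars false

namespace Cfsg.Agent.H818.Gen.Tor

open CoxeterSystem Cfsg Cfsg.Lie Cfsg.Lie.ChevalleyDatum
open Cfsg.Agent.ChevalleyStructure Cfsg.Agent.ChevalleyStructure.CoxeterGeom
  Cfsg.Agent.ChevalleyStructure.CoxeterGeomTypes Cfsg.Agent.ChevalleyStructure.NPerm
open Cfsg.Agent.Tits.Roots Cfsg.Agent.Tits.Core Cfsg.Agent.Nodes Cfsg.Agent.Nodes.Reps Cfsg.Agent.Nodes.SubComb
  Cfsg.Agent.Nodes.RGDChev
open Cfsg.Agent.H129.WData Cfsg.Agent.H795.SetTor Cfsg.Agent.H795.TorsData Cfsg.Agent.H795.TorSub Cfsg.Agent.H795.RowsA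
open Cfsg.Agent.H469.Exc Cfsg.Agent.H508.Tor Cfsg.Agent.Nodes.BNOf Cfsg.Agent.KFacts.RgdField
  Cfsg.Agent.KFacts.RgdChevCoord Cfsg.Agent.BpExc.TorCent Cfsg.Agent.BpExc.TorChev Cfsg.Agent.BpExc.TowChev

section cert

variable {I W : Type*} [Fintype I] [DecidableEq I] [Group W] {M : CoxeterMatrix I}
  {cs : CoxeterSystem M W} {A : I → I → ℤ} {h : IsCartan M A}

/-- The certificate for one element of order `l`, `l ∥ |W|`, with arbitrary reflections. -/
theorem tors_of_refl [Finite W] {l : ℕ} (hl : l.Prime) (hW : ¬ l ^ 2 ∣ Nat.card W) (w₀ : W) (ho : orderOf w₀ = l)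
    (hx : w₀ ∈ Subgroup.closure {v | ∃ (u : W) (i : I) (x : I → ℤ), v = rfl' cs u i ∧
      rep cs h w₀ x - x = rep cs h u (sr i)}) : Tors cs h l := by
  classical
  intro w hw
  have hfl : Fact l.Prime := ⟨hl⟩
  have hdvd : l ∣ Nat.card W := ho ▸ orderOf_dvd_natCard w₀
  have hsyl : ∀ v : W, orderOf v = l → ∃ P : Sylow l W, (P : Subgroup W) = Subgroup.zpowers v := by
    intro v hv
    have h1 : IsPGroup l ↥(Subgroup.zpowers v) :=
      IsPGroup.of_card (n := 1) (by rw [Nat.card_zpowers, hv, pow_one])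
    have h2 : ¬ l ∣ (Subgroup.zpowers v).index := by
      intro hd
      apply hW
      rw [← Subgroup.card_mul_index (Subgroup.zpowers v), Nat.card_zpowers, hv, pow_two]
      exact Nat.mul_dvd_mul_left l hd
    exact ⟨h1.toSylow h2, rfl⟩
  obtain ⟨P, hP⟩ := hsyl w hw
  obtain ⟨P₀, hP₀⟩ := hsyl w₀ ho
  obtain ⟨g, hg⟩ := MulAction.exists_smul_eq W P₀ P
  have h1 : g * w₀ * g⁻¹ ∈ Subgroup.zpowers w := by
    rw [← hP, ← hg, Sylow.coe_subgroup_smul, Subgroup.mem_pointwise_smul_iff_inv_smul_mem, ← map_inv, MulAut.smul_def,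
      MulAut.conj_apply, inv_inv, hP₀]
    have e : g⁻¹ * (g * w₀ * g⁻¹) * g = w₀ := by group
    rw [e]
    exact Subgroup.mem_zpowers w₀
  have hfin : IsOfFinOrder w := isOfFinOrder_of_finite w
  obtain ⟨i, hi⟩ := hfin.mem_powers_iff_mem_zpowers.2 h1
  have hi' : w ^ i = g * w₀ * g⁻¹ := hi
  have hord : orderOf (g * w₀ * g⁻¹) = l := by
    rw [← MulAut.conj_apply]
    rw [← ho]
    exact orderOf_injective (MulAut.conj g).toMonoidHom (MulAut.conj g).injective w₀
  have h2 : w ∈ Subgroup.zpowers (g * w₀ * g⁻¹) := by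
    have h3 : Subgroup.zpowers (g * w₀ * g⁻¹) ≤ Subgroup.zpowers w := Subgroup.zpowers_le.2 h1
    have h4 : Subgroup.zpowers (g * w₀ * g⁻¹) = Subgroup.zpowers w := by
      refine Subgroup.eq_of_le_of_card_ge h3 ?_
      rw [Nat.card_zpowers, Nat.card_zpowers, hord, hw]
    rw [h4]
    exact Subgroup.mem_zpowers w
  have hsum : ∀ (m : ℕ) (y : I → ℤ), ∃ x, rep cs h w x - x = rep cs h (w ^ m) y - y := by
    intro m y
    induction m with
    | zero => exact ⟨0, by rw [map_zero, sub_zero, pow_zero, map_one, Module.End.one_apply, sub_self]⟩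
    | succ m ih =>
      obtain ⟨x, hx⟩ := ih
      refine ⟨x + rep cs h (w ^ m) y, ?_⟩
      rw [map_add, pow_succ', rep_mul_apply]
      have : rep cs h w x - x = rep cs h (w ^ m) y - y := hx
      have e : rep cs h w x = rep cs h (w ^ m) y - y + x := by rw [← this]; abel
      rw [e]
      abel
  have h5 : g * w₀ * g⁻¹ ∈ Subgroup.closure {v | ∃ (u : W) (i : I) (x : I → ℤ), v = rfl' cs u i ∧
      rep cs h w x - x = rep cs h u (sr i)} := by
    have h6 : Subgroup.closure {v | ∃ (u : W) (i : I) (x : I → ℤ), v = rfl' cs u i ∧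
        rep cs h w₀ x - x = rep cs h u (sr i)} ≤
        (Subgroup.closure {v | ∃ (u : W) (i : I) (x : I → ℤ), v = rfl' cs u i ∧
          rep cs h w x - x = rep cs h u (sr i)}).comap (MulAut.conj g).toMonoidHom := by
      rw [Subgroup.closure_le]
      rintro _ ⟨u, j, x, rfl, hx⟩
      apply Subgroup.subset_closure
      obtain ⟨y, hy⟩ := hsum i (rep cs h g x)
      refine ⟨g * u, j, y, ?_, ?_⟩
      · show g * rfl' cs u j * g⁻¹ = rfl' cs (g * u) j
        unfold rfl'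
        group
      · rw [hy, hi', rep_mul_apply, rep_mul_apply]
        have e : rep cs h g⁻¹ (rep cs h g x) = x := by
          rw [← rep_mul_apply, inv_mul_cancel, map_one, Module.End.one_apply]
        rw [e, rep_mul_apply, ← hx, map_sub]
    exact h6 hx
  exact (Subgroup.zpowers_le.2 h5) h2

end cert

namespace D4q3

/-- the Cartan matrix -/
def Am : Mat 4 := ![![2, -1, 0, 0], ![-1, 2, -1, -1], ![0, -1, 2, 0], ![0, -1, 0, 2]]

/-- the partial products -/
def chain : List (Fin 4 × Mat 4) := [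
    (0, ![![0, 1, 0, 0], ![-1, -1, 0, 0], ![1, 1, 1, 0], ![1, 1, 0, 1]]),
    (1, ![![1, 1, 0, 0], ![0, -1, 0, 0], ![0, 1, 1, 0], ![0, 1, 0, 1]])]

/-- the powers -/
def pw : List (Mat 4) := [
    ![![1, 0, 0, 0], ![0, 1, 0, 0], ![0, 0, 1, 0], ![0, 0, 0, 1]],
    ![![-1, -1, 0, 0], ![1, 0, 0, 0], ![0, 1, 1, 0], ![0, 1, 0, 1]],
    ![![0, 1, 0, 0], ![-1, -1, 0, 0], ![1, 1, 1, 0], ![1, 1, 0, 1]]]

/-- the solutions -/
def xs : Mat 4 := ![![0, 1, 2, 0], ![0, -1, -1, 0], ![0, 0, 0, 0], ![0, 0, 0, 0]]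

theorem hA : ∀ i j, Am i j = cartanOf chevD4 4 i j := by decide +kernel
theorem chainOK : ChainOK Am chain := by decide +kernel
theorem powOK : PowOK (hd chain) pw := by decide +kernel
theorem oneOK : ∀ j m, hdm pw j m = if j = m then 1 else 0 := by decide +kernel
theorem neOK : ∃ j m, hd chain j m ≠ if j = m then 1 else 0 := by decide +kernel
theorem xOK : ∀ j ∈ chain.map Prod.fst, ∀ m, ∑ n, xs j n * hd chain n m - xs j m = if m = j then 1 else 0 := by
  decide +kernel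

end D4q3

namespace G2q3

/-- the Cartan matrix -/
def Am : Mat 2 := ![![2, -3], ![-1, 2]]

/-- `s₀` -/
def chain0 : List (Fin 2 × Mat 2) := [(0, ![![-1, 0], ![3, 1]])]

/-- `s₀ s₁ s₀ s₁` -/
def chain : List (Fin 2 × Mat 2) := [
    (0, ![![1, 1], ![-3, -2]]),
    (1, ![![2, 1], ![-3, -2]]),
    (0, ![![2, 1], ![-3, -1]]),
    (1, ![![1, 1], ![0, -1]])]

/-- the powers -/
def pw : List (Mat 2) := [
    ![![1, 0], ![0, 1]],
    ![![-2, -1], ![3, 1]],
    ![![1, 1], ![-3, -2]]]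

theorem hA : ∀ i j, Am i j = cartanOf chevG2 2 i j := by decide +kernel
theorem chain0OK : ChainOK Am chain0 := by decide +kernel
theorem chainOK : ChainOK Am chain := by decide +kernel
theorem powOK : PowOK (hd chain) pw := by decide +kernel
theorem oneOK : ∀ j m, hdm pw j m = if j = m then 1 else 0 := by decide +kernel
theorem neOK : ∃ j m, hd chain j m ≠ if j = m then 1 else 0 := by decide +kernel

end G2q3

theorem torsD4 (hp : IsType chevD4 4 Cfsg.Lie.coxeterD4) :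
    ¬ 3 ^ 2 ∣ Nat.card Cfsg.Lie.coxeterD4.Group ∧ Tors Cfsg.Lie.coxeterD4.toCoxeterSystem hp.isCartan 3 := by
  have := finW hp
  have h2 : ¬ 3 ^ 2 ∣ Nat.card Cfsg.Lie.coxeterD4.Group := by rw [card_D4]; norm_num
  exact ⟨h2, tors_of_data hp _ D4q3.hA D4q3.chainOK Nat.prime_three D4q3.powOK rfl D4q3.oneOK D4q3.neOK D4q3.xOK h2⟩

theorem torsG2 (hp : IsType chevG2 2 CoxeterMatrix.G₂) :
    ¬ 3 ^ 2 ∣ Nat.card CoxeterMatrix.G₂.Group ∧ Tors CoxeterMatrix.G₂.toCoxeterSystem hp.isCartan 3 := by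
  have := finW hp
  have h2 : ¬ 3 ^ 2 ∣ Nat.card CoxeterMatrix.G₂.Group := by rw [card_G2]; norm_num
  refine ⟨h2, ?_⟩
  set cs := CoxeterMatrix.G₂.toCoxeterSystem with hcs
  have hrep := chain_rep hp cs G2q3.hA G2q3.chainOK
  have hrep0 := chain_rep hp cs G2q3.hA G2q3.chain0OK
  obtain ⟨w, hw⟩ : ∃ w, w = cs.wordProd (G2q3.chain.map Prod.fst) := ⟨_, rfl⟩
  obtain ⟨u, hu⟩ : ∃ u, u = cs.wordProd (G2q3.chain0.map Prod.fst) := ⟨_, rfl⟩
  rw [← hw] at hrep
  rw [← hu] at hrep0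
  have hid : ∀ j m : Fin 2, (sr j : Fin 2 → ℤ) m = if j = m then 1 else 0 := by
    intro j m
    by_cases hm : j = m
    · subst hm; rw [if_pos rfl, sr_self]
    · rw [if_neg hm, sr_ne (Ne.symm hm)]
  have ho : orderOf w = 3 := by
    refine orderOf_eq_prime ?_ ?_
    · apply rep_injective cs hp.isCartan
      rw [map_one]
      apply LinearMap.ext
      intro y
      funext m
      have h3 : w ^ 3 = w ^ G2q3.pw.length := rfl
      rw [h3, rep_of_sr hp cs (Th := hdm G2q3.pw) (pow_rep hp cs hrep G2q3.powOK) y m, Module.End.one_apply]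
      simp only [G2q3.oneOK]
      simp
    · intro h2
      obtain ⟨j, m, hjm⟩ := G2q3.neOK
      apply hjm
      rw [← hrep j, h2, map_one, Module.End.one_apply, hid]
  refine tors_of_refl Nat.prime_three h2 w ho ?_
  have hw' : w = rfl' cs u 1 * rfl' cs 1 1 := by
    rw [hw, hu]
    simp only [G2q3.chain, G2q3.chain0, List.map_cons, List.map_nil, wordProd_cons, wordProd_nil, rfl', mul_one,
      one_mul, inv_one]
    rw [cs.inv_simple]
    group
  rw [hw']
  have h0 := hrep 0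
  have h1 := hrep 1
  rw [hw'] at h0 h1
  have e0 : rep cs hp.isCartan (rfl' cs u 1 * rfl' cs 1 1) (sr 0) = sr 0 + sr 1 := by
    rw [h0]; funext m; fin_cases m <;> simp [G2q3.chain, hd, sr]
  have e1 : rep cs hp.isCartan (rfl' cs u 1 * rfl' cs 1 1) (sr 1) = -(3 : ℤ) • sr 0 - (2 : ℤ) • sr 1 := by
    rw [h1]; funext m; fin_cases m <;> simp [G2q3.chain, hd, sr]
  have e2 : rep cs hp.isCartan u (sr 1) = (3 : ℤ) • sr 0 + sr 1 := by
    rw [hrep0 1]; funext m; fin_cases m <;> simp [G2q3.chain0, hd, sr]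
  refine mul_mem (Subgroup.subset_closure ⟨u, 1, -sr 1 - (2 : ℤ) • sr 0, rfl, ?_⟩)
    (Subgroup.subset_closure ⟨1, 1, sr 0, rfl, ?_⟩)
  · rw [e2, map_sub, map_neg, map_zsmul, e0, e1]
    module
  · rw [e0, map_one, Module.End.one_apply]
    abel

/-- the non-torsion cases -/
def TorCase (D : ChevalleyDatum) (p : ℕ) : Prop := 5 ≤ p ∧ (D = chevE8 → p ≠ 5) ∨ p = 3 ∧ (D = chevG2 ∨ D = chevD4)

theorem tors_ok {D : ChevalleyDatum} {l : ℕ} {M : CoxeterMatrix (Fin l)} (hp : IsType D l M) {p : ℕ} (hpp : p.Prime)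
    (h : TorCase D p) : ¬ p ^ 2 ∣ Nat.card M.Group ∧ Tors M.toCoxeterSystem hp.isCartan p := by
  rcases h with ⟨h1, h2⟩ | ⟨rfl, h2⟩
  · exact tors_five hp hpp h1 h2
  · have h := hp
    simp only [IsType, typeList, List.mem_cons, List.not_mem_nil, or_false, Prod.mk.injEq] at h
    rcases h2 with rfl | rfl
    · rcases h with ⟨h3, h⟩ | ⟨h3, h⟩ | ⟨h3, h⟩ | ⟨h3, h⟩ | ⟨h3, h⟩ | ⟨h3, h⟩ | ⟨h3, h⟩
      · cases h
        exact torsG2 hp
      all_goals exact absurd (congrArg ChevalleyDatum.nroots h3) (by decide +kernel)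
    · rcases h with ⟨h3, h⟩ | ⟨h3, h⟩ | ⟨h3, h⟩ | ⟨h3, h⟩ | ⟨h3, h⟩ | ⟨h3, h⟩ | ⟨h3, h⟩
      on_goal 3 => cases h; exact torsD4 hp
      all_goals exact absurd (congrArg ChevalleyDatum.nroots h3) (by decide +kernel)

/-- **all elementary abelian `p`-subgroups are toral** -/
theorem exists_toral {D : ChevalleyDatum} {l : ℕ} {M : CoxeterMatrix (Fin l)} (hp : IsType D l M) {r : ℕ}
    [hr : Fact r.Prime] {p : ℕ} (hpp : p.Prime) (hpr : p ≠ r) (h : TorCase D p) {E : Subgroup ↥(D.group (KK r))}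
    [Finite ↥E] (hE : IsElementaryAbelian p E) : ∃ z : ↥(D.group (KK r)), ∀ x ∈ E, z * x * z⁻¹ ∈ TT D (KK r) := by
  have hpf : Fact p.Prime := ⟨hpp⟩
  obtain ⟨hW, hT⟩ := tors_ok hp hpp h
  exact exists_toral_abelian hp r (locFin r) hpp hpr hW hT (H818.Gen.elab_isPGroup hE) fun a ha b hb =>
    congrArg Subtype.val (hE.1.is_comm.comm (⟨a, ha⟩ : ↥E) ⟨b, hb⟩)

end Cfsg.Agent.H818.Gen.Tor
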